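import Cfsg.Agent.Lib.Recognition.USixCentral.Plane.Root

/-!
# The configuration of the branch with an invariant plane
-/

set_option autoImplicit false
set_option maxRecDepth 100000
set_option linter.unusedSectionVars false
set_option linter.style.haveILetI false

namespace CfsgLib.Recognition.USixCentral.Plane

open CfsgLib.ThreeTransp
open CfsgLib.Recognition.USixCentral (SplitAt eq_one_of_two_odd)
open CfsgLib.Recognition.USixTwoOuter (P40 K40 V gen gc gc_mem Ops Seed opsOf plane G0)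

variable {G : Type*} [Group G] [Finite G]

namespace Quot

variable {z a : G} {J K : Subgroup G} {Q : Type*} [Group Q] [Finite Q]
  {q : ↥(Subgroup.centralizer ({a} : Set G)) →* Q} {Jq Kq : Subgroup Q} {zb : Q} {φ : ↥Kq →* P40}
  (h : Quot z a J K q Jq Kq zb φ) (f : ExtraspecialOut.Frame ↥Jq 8)
  (k : Fin 6 → ↥Kq) (hk : ∀ i, φ (k i) = gen i)
  (hops : Ops (opsOf h.hyp f k) (fun v => ExtraspecialOut.Q f v) (QuadraticMap.polarBilin (ExtraspecialOut.Q f)))
  (hno : ∀ x, ¬ Seed (opsOf h.hyp f k) x)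
include h

/-- The subgroup generated by the elements of odd order of `K`. -/
def Ps (_h : Quot z a J K q Jq Kq zb φ) : Subgroup G := Subgroup.closure {g : G | g ∈ K ∧ Odd (orderOf g)}

theorem Ps_le : h.Ps ≤ K := (Subgroup.closure_le _).2 fun _ hg => hg.1

theorem Ps_conj {c : G} (hc : c * z = z * c) {p : G} (hp : p ∈ h.Ps) : c * p * c⁻¹ ∈ h.Ps := by
  have hmap : (h.Ps).map (MulAut.conj c).toMonoidHom ≤ h.Ps := by
    rw [Ps, MonoidHom.map_closure]
    refine Subgroup.closure_mono ?_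
    rintro _ ⟨g, hg, rfl⟩
    exact ⟨h.K_norm c hc g hg.1, by rw [MulEquiv.coe_toMonoidHom, MulEquiv.orderOf_eq]; exact hg.2⟩
  exact hmap ⟨p, hp, rfl⟩

theorem odd_pow_mem {x : G} (hx : x ∈ K) : ∃ n : ℕ, x ^ 2 ^ n ∈ h.Ps ∧ Odd (orderOf (x ^ 2 ^ n)) := by
  haveI : Fact (Nat.Prime 2) := ⟨Nat.prime_two⟩
  obtain ⟨n, hn⟩ := CfsgLib.Fusion.Basic.exists_pow_coprime (p := 2) x
  have hodd := Nat.coprime_two_right.1 hn
  exact ⟨n, Subgroup.subset_closure ⟨pow_mem hx _, hodd⟩, hodd⟩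

theorem Ps_cover {x : G} (hx : x ∈ K) : ∃ p ∈ h.Ps, p⁻¹ * x ∈ J := by
  classical
  set M := ((h.Ps).subgroupOf (Subgroup.centralizer ({a} : Set G))).map q with hM
  have hMK : M ≤ Kq := by
    rintro _ ⟨y, hy, rfl⟩
    exact h.mem_Kq.2 (h.Ps_le hy)
  have h40 : K40 ≤ (M.subgroupOf Kq).map φ := by
    refine CfsgLib.Recognition.USixTwoOuter.normal_eq_K40 ?_ ?_
    · intro g hg m hm
      obtain ⟨u, rfl⟩ : ∃ u, φ u = g := MonoidHom.mem_range.1 (h.hyp.range ▸ hg)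
      obtain ⟨v, hv, rfl⟩ := hm
      obtain ⟨y, hy, rfl⟩ := h.exists_L u
      obtain ⟨p, hp, hpv⟩ := hv
      refine ⟨h.kq hy * v * (h.kq hy)⁻¹, ⟨⟨y, h.K_ca hy⟩ * p * ⟨y, h.K_ca hy⟩⁻¹,
        h.Ps_conj (h.K_z y hy) hp, ?_⟩, by rw [map_mul, map_mul, map_inv]⟩
      change q p = (v : Q) at hpv
      rw [map_mul, map_mul, map_inv, hpv]
      rfl
    · obtain ⟨u, hu⟩ : ∃ u, φ u = gc 0 := MonoidHom.mem_range.1 (h.hyp.range ▸ gc_mem 0)
      obtain ⟨y, hy, rfl⟩ := h.exists_L u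
      obtain ⟨n, hn, -⟩ := h.odd_pow_mem hy
      refine ⟨(h.kq hy ^ 2 ^ n) ^ 2 ^ n, ⟨(⟨y, h.K_ca hy⟩ ^ 2 ^ n) ^ 2 ^ n,
        Subgroup.pow_mem ((h.Ps).subgroupOf (Subgroup.centralizer ({a} : Set G))) hn _, ?_⟩, ?_⟩
      · rw [map_pow, map_pow]; rfl
      · have h3 : gc 0 ^ 3 = 1 := by decide +kernel
        rw [map_pow, map_pow, hu, ← pow_mul, ← pow_add]
        have h4 : 2 ^ (n + n) % 3 = 1 := by
          rw [← two_mul, pow_mul, Nat.pow_mod]
          norm_num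
        conv_lhs => rw [← Nat.div_add_mod (2 ^ (n + n)) 3, h4, pow_add, pow_mul, h3, one_pow, one_mul, pow_one]
  obtain ⟨v, ⟨p, hp, hpv⟩, e⟩ := h40 (h.hyp.range ▸ ⟨h.kq hx, rfl⟩ : φ (h.kq hx) ∈ K40)
  refine ⟨(p : G), hp, ?_⟩
  have h1 : ((v⁻¹ * h.kq hx : ↥Kq) : Q) ∈ Jq := (h.hyp.ker _).1 (by rw [map_mul, map_inv, e, inv_mul_cancel])
  change (v : Q)⁻¹ * q ⟨x, h.K_ca hx⟩ ∈ Jq at h1
  change q p = (v : Q) at hpv
  rw [← hpv, ← map_inv, ← map_mul] at h1
  exact h.mem_Jq.1 h1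

theorem card_Xs (hcard : Nat.card (plane h.hyp f k) = 4) : Nat.card (h.Xs f k) = 16 := by
  classical
  let co : ↥J →* Multiplicative V :=
    { toFun := fun j => Multiplicative.ofAdd (h.co f j.2)
      map_one' := congrArg Multiplicative.ofAdd (h.co_one f)
      map_mul' := fun i j => congrArg Multiplicative.ofAdd (h.co_mul f i.2 j.2) }
  have hsurj : Function.Surjective co := fun v => by
    obtain ⟨j, hj, e⟩ := h.co_surj f (Multiplicative.toAdd v)
    exact ⟨⟨j, hj⟩, congrArg Multiplicative.ofAdd e⟩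
  have hle : h.Xs f k ≤ J := fun x hx => hx.1
  have hcomap : (AddSubgroup.toSubgroup (plane h.hyp f k)).comap co = (h.Xs f k).subgroupOf J := by
    ext j
    exact ⟨fun hj => ⟨j.2, hj⟩, fun ⟨_, hj⟩ => hj⟩
  have hidx : ((h.Xs f k).subgroupOf J).index = (AddSubgroup.toSubgroup (plane h.hyp f k)).index := by
    rw [← hcomap, Subgroup.index_comap_of_surjective _ hsurj]
  have h1 := ((h.Xs f k).subgroupOf J).card_mul_index
  have h2 := (AddSubgroup.toSubgroup (plane h.hyp f k)).card_mul_index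
  rw [hidx, Nat.card_congr (Subgroup.subgroupOfEquivOfLe hle).toEquiv, h.card_J] at h1
  rw [show Nat.card ↥(AddSubgroup.toSubgroup (plane h.hyp f k)) = 4 from hcard,
    show Nat.card (Multiplicative V) = 256 by
      rw [Nat.card_congr Multiplicative.toAdd, Nat.card_eq_fintype_card, Fintype.card_fun, ZMod.card,
        Fintype.card_fin]; rfl] at h2
  have h3 : (AddSubgroup.toSubgroup (plane h.hyp f k)).index = 64 := by omega
  rw [h3] at h1
  omega

include hk hops hno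

theorem L_mem {x : G} (hx : x ∈ K) : h.L f hx ∈ G0 h.hyp f := ⟨_, rfl⟩

/-- The configuration. -/
theorem data (noQ8 : ∀ c d t : G, c * z = z * c → d * z = z * d → t * z = z * t → c * c = d * d →
      d * c * d⁻¹ = c⁻¹ → c * c ∉ J → c * c * (c * c) = 1 → t * t = 1 → t ∉ J → c * c * t ∉ J → t * c = c * t →
      t * d = d * t → False)
    (splitA : SplitAt z (Subgroup.centralizer ({a} : Set G)))
    (splitB : SplitAt z (Subgroup.centralizer ({z * a} : Set G))) :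
    Data z a J (h.Xs f k) (h.Ws f k) K h.Ps := by
  classical
  haveI : Fact (Nat.Prime 2) := ⟨Nat.prime_two⟩
  have hS := h.sys f k hk hops hno
  set F := plane h.hyp f k with hF
  set P' := CfsgLib.Recognition.USixTwoOuter.Plane.perp (ExtraspecialOut.Q f) F with hP'
  set β := QuadraticMap.polarBilin (ExtraspecialOut.Q f) with hβ
  have h01 : ∀ t : ZMod 2, t = 0 ∨ t = 1 := CfsgLib.Recognition.USixTwoOuter.zmod_two_cases
  have hdiff : ∀ {x j} (hx : x ∈ K) (hj : j ∈ J),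
      h.co f (mul_mem (h.norm x (h.K_z x hx) j hj) (inv_mem hj)) = h.L f hx (h.co f hj) + h.co f hj := by
    intro x j hx hj
    rw [h.co_mul f (h.norm x (h.K_z x hx) j hj) (inv_mem hj), h.co_inv f hj, h.L_act f hx hj]
  have hfixes : ∀ {x j} (hx : x ∈ K) (hj : j ∈ J), InZ z a (x * j * x⁻¹ * j⁻¹) ↔
      h.L f hx (h.co f hj) = h.co f hj := by
    intro x j hx hj
    rw [← h.co_eq_zero f (mul_mem (h.norm x (h.K_z x hx) j hj) (inv_mem hj)), hdiff hx hj]
    exact ⟨fun e => (eq_neg_of_add_eq_zero_left e).trans (ZModModule.neg_eq_self _),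
      fun e => by rw [e, ZModModule.add_self]⟩
  have hWX : ∀ e ∈ h.Ws f k, ∀ x ∈ h.Xs f k, e * x = x * e := by
    rintro e ⟨he, he'⟩ x ⟨hx, hx'⟩
    refine (h.co_comm f he hx).1 ?_
    rw [CfsgLib.Recognition.USixTwoOuter.Plane.beta_comm]
    exact he' _ hx'
  -- every nonzero vector of the complement has a partner
  have hpartner : ∀ v ∈ P', v ≠ 0 → ∃ w ∈ P', β v w = 1 := by
    intro v hv hv0
    by_contra hc
    push Not at hc
    refine hv0 (hS.nondeg v fun u => ?_)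
    obtain ⟨u', hu', y, hy, rfl⟩ := hS.dec u
    rw [map_add, (h01 _).resolve_right (hc y hy), add_zero, CfsgLib.Recognition.USixTwoOuter.Plane.beta_comm]
    exact hv u' hu'
  obtain ⟨v₀, hv₀, hv₀0⟩ : ∃ v ∈ P', v ≠ 0 := by
    by_contra hc
    push Not at hc
    have h64 := hS.cardP
    rw [← hP', (AddSubgroup.eq_bot_iff_forall _).2 hc, AddSubgroup.card_bot] at h64
    omega
  -- the complement is covered by `P`
  have hPw : ∀ v ∈ P', ∃ p, p ∈ h.Ps ∧ ∃ hp : p ∈ J, h.co f hp = v := by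
    let S : AddSubgroup V :=
      { carrier := {v | v ∈ P' ∧ ∃ p, p ∈ h.Ps ∧ ∃ hp : p ∈ J, h.co f hp = v}
        zero_mem' := ⟨zero_mem _, 1, one_mem _, one_mem _, h.co_one f⟩
        add_mem' := by
          rintro _ _ ⟨hu', p, hp, hpJ, rfl⟩ ⟨hw', p', hp', hpJ', rfl⟩
          exact ⟨add_mem hu' hw', p * p', mul_mem hp hp', mul_mem hpJ hpJ', h.co_mul f hpJ hpJ'⟩
        neg_mem' := by
          intro v hv
          rwa [ZModModule.neg_eq_self] }
    have hmv : ∀ g ∈ G0 h.hyp f, ∀ v ∈ P', g v + v ∈ S := by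
      rintro _ ⟨u, rfl⟩ v hv
      obtain ⟨x, hx, rfl⟩ := h.exists_L u
      obtain ⟨p, hp, hpJ⟩ := h.Ps_cover hx
      obtain ⟨j, hj, rfl⟩ := h.co_surj f v
      have hpK := h.Ps_le hp
      have eL : h.L f hx = h.L f hpK := by
        have h1 := (h.L_eq_one f (mul_mem (inv_mem hpK) hx)).2 hpJ
        rw [h.L_mul f (inv_mem hpK) hx, h.L_inv f hpK, inv_mul_eq_one] at h1
        exact h1.symm
      refine ⟨add_mem (hS.presP (hS.le ⟨_, rfl⟩) hv) hv, p * j * p⁻¹ * j⁻¹, ?_,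
        mul_mem (h.norm p (h.K_z p hpK) j hj) (inv_mem hj), ?_⟩
      · rw [show p * j * p⁻¹ * j⁻¹ = p * (j * p⁻¹ * j⁻¹) by group]
        exact mul_mem hp (h.Ps_conj (h.J_z j hj) (inv_mem hp))
      · rw [hdiff hpK hj, ← eL]; rfl
    rcases hS.irred S (fun v hv => hv.1) (fun g hg v hv => by
        have := add_mem (hmv g hg v hv.1) hv
        rwa [add_assoc, ZModModule.add_self, add_zero] at this) with e | e
    · exfalso
      obtain ⟨g, hg, hg5, -⟩ := hS.five v₀ hv₀ hv₀0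
      have : g = 1 := hS.faith g (hS.le hg) fun v hv => by
        have h1 := hmv g hg v hv
        rw [e, AddSubgroup.mem_bot] at h1
        exact (eq_neg_of_add_eq_zero_left h1).trans (ZModModule.neg_eq_self _)
      rw [this, orderOf_one] at hg5
      omega
    · exact fun v hv => (e hv).2
  have hWgen : ∀ e ∈ h.Ws f k, ∃ p ∈ h.Ps, InZ z a (p⁻¹ * e) := by
    rintro e ⟨he, he'⟩
    obtain ⟨p, hp, hpJ, hpe⟩ := hPw _ he'
    exact ⟨p, hp, h.inZ_of_co f hpJ he hpe⟩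
  -- two elements of `P` in the complement that do not commute
  obtain ⟨w₀, hw₀, hbw⟩ := hpartner v₀ hv₀ hv₀0
  obtain ⟨p₁, hp₁, hp₁J, e₁⟩ := hPw v₀ hv₀
  obtain ⟨p₂, hp₂, hp₂J, e₂⟩ := hPw w₀ hw₀
  have hp₁W : p₁ ∈ h.Ws f k := ⟨hp₁J, e₁ ▸ hv₀⟩
  have hp₂W : p₂ ∈ h.Ws f k := ⟨hp₂J, e₂ ▸ hw₀⟩
  have hanti : p₁ * p₂ = z * (p₂ * p₁) := (h.comm p₁ hp₁J p₂ hp₂J).resolve_left fun e => by
    have := (h.co_comm f hp₁J hp₂J).2 e
    rw [e₁, e₂] at this
    exact zero_ne_one (this.symm.trans hbw)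
  refine
    { ord_z := h.ord_z, ord_a := h.ord_a, ne := h.ne
      z_mem := ⟨h.z_mem, by rw [(h.co_eq_zero f h.z_mem).2 (Or.inr (Or.inl rfl))]; exact zero_mem _⟩
      a_mem := ⟨h.a_mem, by rw [(h.co_eq_zero f h.a_mem).2 (Or.inr (Or.inr (Or.inl rfl)))]; exact zero_mem _⟩
      card_J := h.card_J, J_z := h.J_z, J_a := h.J_a, comm := h.comm, sq := h.sq, centre := h.centre
      cent_le := h.cent_le, norm := h.norm
      X_le := fun x hx => hx.1
      W_iff := fun j => ⟨fun hj => ⟨hj.1, hWX j hj⟩, fun ⟨hj, hc⟩ => ⟨hj, fun v hv => ?_⟩⟩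
      span := fun j hj => ?_
      X_iff := fun j => ⟨fun ⟨hj, hj'⟩ => ⟨hj, fun x hx => (hfixes hx hj).2 (h.L_fix_plane f k hk hops hno hx hj')⟩,
        fun ⟨hj, hc⟩ => ⟨hj, ?_⟩⟩
      X_card := h.card_Xs f k hS.cardF
      X_anti := ?_
      W_root := fun x hx h2 => h.W_root f k hk hops hno hx h2
      K_z := h.K_z, K_a := h.K_a, J_K := h.J_K, K_norm := h.K_norm, K_par := h.K_par
      P_def := rfl
      K_gen := fun x hx => h.Ps_cover hx
      twoLe := ?_
      five := ?_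
      faith := ?_
      W_gen := hWgen
      z_P := ?_
      W_four := ?_
      noTen := ?_
      noQ8 := noQ8, splitA := splitA, splitB := splitB }
  · obtain ⟨x, hx, rfl⟩ := h.co_surj f v
    rw [CfsgLib.Recognition.USixTwoOuter.Plane.beta_comm]
    exact (h.co_comm f hj hx).2 (hc x ⟨hx, hv⟩)
  · obtain ⟨u, hu, y, hy, e⟩ := hS.dec (h.co f hj)
    obtain ⟨x, hx, rfl⟩ := h.co_surj f u
    refine ⟨x, ⟨hx, hu⟩, x⁻¹ * j, ⟨mul_mem (inv_mem hx) hj, ?_⟩, (mul_inv_cancel_left x j).symm⟩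
    rw [h.co_mul f (inv_mem hx) hj, h.co_inv f hx, e, ← add_assoc, ZModModule.add_self, zero_add]
    exact hy
  · obtain ⟨u, hu, y, hy, e⟩ := hS.dec (h.co f hj)
    have hyfix : ∀ g ∈ G0 h.hyp f, g y = y := by
      rintro _ ⟨g, rfl⟩
      obtain ⟨x, hx, rfl⟩ := h.exists_L g
      have h1 := (hfixes hx hj).1 (hc x hx)
      rw [e] at h1
      exact (hS.fix_parts (h.L_GC f k hk hops hno hx) hu hy h1).2
    suffices hy0 : y = 0 by rw [e, hy0, add_zero]; exact hu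
    by_contra hy0
    let S : AddSubgroup V :=
      { carrier := {v | v ∈ P' ∧ ∀ g ∈ G0 h.hyp f, g v = v}
        zero_mem' := ⟨zero_mem _, fun g _ => map_zero g⟩
        add_mem' := fun {v w} hv hw => ⟨add_mem hv.1 hw.1, fun g hg => by rw [map_add, hv.2 g hg, hw.2 g hg]⟩
        neg_mem' := fun {v} hv => by rwa [ZModModule.neg_eq_self] }
    rcases hS.irred S (fun v hv => hv.1) (fun g hg v hv => by rwa [hv.2 g hg]) with e' | e'
    · have := e'.le (show y ∈ S from ⟨hy, hyfix⟩)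
      exact hy0 (AddSubgroup.mem_bot.1 this)
    · obtain ⟨g, hg, hg5, -⟩ := hS.five y hy hy0
      have : g = 1 := hS.faith g (hS.le hg) fun v hv => (e' hv).2 g hg
      rw [this, orderOf_one] at hg5
      omega
  · rintro x ⟨hx, hx'⟩ y ⟨hy, hy'⟩ nx ny nxy
    refine (h.comm y hy x hx).resolve_left fun e => ?_
    have hb : β (h.co f hx) (h.co f hy) = 0 := (h.co_comm f hx hy).2 e.symm
    have hx0 : h.co f hx ≠ 0 := fun e' => nx ((h.co_eq_zero f hx).1 e')
    have hy0 : h.co f hy ≠ 0 := fun e' => ny ((h.co_eq_zero f hy).1 e')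
    have hne : h.co f hx ≠ h.co f hy := fun e' => nxy ((h.co_eq_zero f (mul_mem hx hy)).1 (by
      rw [h.co_mul f hx hy, e', ZModModule.add_self]))
    refine hx0 (hS.inf hx' fun v hv => ?_)
    haveI := Fintype.ofFinite F
    have hsub : ({0, h.co f hx, h.co f hy, h.co f hx + h.co f hy} : Finset V) ⊆ (F : Set V).toFinset := by
      intro t ht
      simp at ht
      rcases ht with rfl | rfl | rfl | rfl
      · simp [zero_mem]
      · simpa using hx'
      · simpa using hy'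
      · simpa using add_mem hx' hy'
    have heq := Finset.eq_of_subset_of_card_le hsub (by
      rw [CfsgLib.Recognition.USixTwoOuter.Plane.card_four hx0 hy0 hne, Set.toFinset_card,
        ← Nat.card_eq_fintype_card, show Nat.card ↥(F : Set V) = 4 from hS.cardF])
    have hv' : v ∈ ({0, h.co f hx, h.co f hy, h.co f hx + h.co f hy} : Finset V) := by rw [heq]; simpa using hv
    simp at hv'
    rw [CfsgLib.Recognition.USixTwoOuter.Plane.beta_comm]
    rcases hv' with rfl | rfl | rfl | rfl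
    · simp
    · exact CfsgLib.Recognition.USixTwoOuter.Plane.beta_self _ _
    · exact hb
    · rw [map_add, CfsgLib.Recognition.USixTwoOuter.Plane.beta_self, zero_add]; exact hb
  · intro R hR hRC hRn r hr
    have hrz : ∀ {r}, r ∈ R → r * z = z * r := fun hr => Subgroup.mem_centralizer_singleton_iff.1 (hRC hr)
    refine h.K_faith r (hrz hr) fun x hx => ?_
    -- the part of `R` in `K` acts as a normal two-group
    have hrk : r * x * r⁻¹ * x⁻¹ ∈ R := by
      rw [show r * x * r⁻¹ * x⁻¹ = r * (x * r⁻¹ * x⁻¹) by group]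
      exact mul_mem hr (hRn x hx _ (inv_mem hr))
    have hrK : r * x * r⁻¹ * x⁻¹ ∈ K := mul_mem (h.K_norm r (hrz hr) x hx) (inv_mem hx)
    set y := r * x * r⁻¹ * x⁻¹ with hy
    rw [← h.L_eq_one f hrK]
    refine hS.faith _ (h.L_GC f k hk hops hno hrK) fun v hv => ?_
    let S : AddSubgroup V :=
      { carrier := {v | v ∈ P' ∧ ∀ y (hy : y ∈ K), y ∈ R → h.L f hy v = v}
        zero_mem' := ⟨zero_mem _, fun y hy _ => map_zero _⟩
        add_mem' := fun {v w} hv hw => ⟨add_mem hv.1 hw.1, fun y hy hyR => by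
          rw [map_add, hv.2 y hy hyR, hw.2 y hy hyR]⟩
        neg_mem' := fun {v} hv => by rwa [ZModModule.neg_eq_self] }
    have hinv : ∀ g ∈ G0 h.hyp f, ∀ v ∈ S, g v ∈ S := by
      rintro _ ⟨g, rfl⟩ v ⟨hvP, hv⟩
      obtain ⟨w, hw, rfl⟩ := h.exists_L g
      refine ⟨hS.presP (hS.le ⟨_, rfl⟩) hvP, fun y hy hyR => ?_⟩
      have hm : w⁻¹ * y * w ∈ K := mul_mem (mul_mem (inv_mem hw) hy) hw
      have hmR : w⁻¹ * y * w ∈ R := by
        have := hRn w⁻¹ (inv_mem hw) y hyR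
        rwa [inv_inv] at this
      have h1 := hv _ hm hmR
      rw [h.L_mul f (mul_mem (inv_mem hw) hy) hw, h.L_mul f (inv_mem hw) hy, h.L_inv f hw] at h1
      show h.L f hy (h.L f hw v) = h.L f hw v
      have h2 := congrArg (h.L f hw) h1
      rw [show h.L f hw (((h.L f hw)⁻¹ * h.L f hy * h.L f hw) v) =
        (h.L f hw * ((h.L f hw)⁻¹ * h.L f hy * h.L f hw)) v from rfl,
        show h.L f hw * ((h.L f hw)⁻¹ * h.L f hy * h.L f hw) = h.L f hy * h.L f hw by group] at h2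
      exact h2
    rcases hS.irred S (fun v hv => hv.1) hinv with e | e
    · exfalso
      let R' : Subgroup G := R ⊓ K
      letI : MulAction ↥R' ↥P' :=
        { smul := fun y v => ⟨h.L f y.2.2 v.1, hS.presP (h.L_GC f k hk hops hno y.2.2) v.2⟩
          one_smul := fun v => Subtype.ext (by
            show h.L f (one_mem K) v.1 = v.1
            rw [(h.L_eq_one f _).2 (one_mem _)]; rfl)
          mul_smul := fun y y' v => Subtype.ext (by
            show h.L f (mul_mem y.2.2 y'.2.2) v.1 = h.L f y.2.2 (h.L f y'.2.2 v.1)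
            rw [h.L_mul f y.2.2 y'.2.2]; rfl) }
      obtain ⟨w, hw, hw0⟩ := (hR.to_le (inf_le_left : R' ≤ R)).exists_fixed_point_of_prime_dvd_card_of_fixed_point
        (α := ↥P') (by rw [hS.cardP]; norm_num) (a := ⟨0, zero_mem _⟩) (fun y => Subtype.ext (map_zero (h.L f y.2.2)))
      have hwS : (w : V) ∈ S := ⟨w.2, fun y hy hyR => congrArg Subtype.val (hw ⟨y, hyR, hy⟩)⟩
      rw [e, AddSubgroup.mem_bot] at hwS
      exact hw0 (Subtype.ext hwS.symm)
    · exact (e hv).2 _ hrK hrk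
  · rintro e ⟨he, he'⟩
    have key : ∀ v, v ∈ P' → v ≠ 0 → ∃ d, ∃ hd : d ∈ K, d ∉ J ∧ d ^ 5 = 1 ∧ h.L f hd v = v := by
      intro v hv hv0
      obtain ⟨g, ⟨u, hu⟩, hg5, hgv⟩ := hS.five v hv hv0
      obtain ⟨x, hx, rfl⟩ := h.exists_L u
      change h.L f hx = g at hu
      obtain ⟨n, -, hodd⟩ := h.odd_pow_mem hx
      have hpow : ∀ m : ℕ, h.L f (pow_mem hx m) = g ^ m := fun m => by
        induction m with
        | zero => rw [h.L_congr f _ (one_mem K) (pow_zero x), pow_zero, (h.L_eq_one f _).2 (one_mem J)]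
        | succ m ih => rw [pow_succ g, ← ih, ← hu, ← h.L_mul f]; exact h.L_congr f _ _ (pow_succ x m)
      have hd5 : (g ^ 2 ^ n) ^ 5 = 1 := by
        rw [← pow_mul, mul_comm, pow_mul, show g ^ 5 = 1 by rw [← hg5, pow_orderOf_eq_one], one_pow]
      refine ⟨x ^ 2 ^ n, pow_mem hx _, fun hJ' => ?_, ?_, ?_⟩
      · have h1 := (h.L_eq_one f (pow_mem hx _)).2 hJ'
        rw [hpow] at h1
        have h5 := orderOf_dvd_of_pow_eq_one h1
        rw [hg5] at h5
        have := (Nat.prime_dvd_prime_iff_eq (by norm_num) Nat.prime_two).1 (Nat.Prime.dvd_of_dvd_pow (by norm_num) h5)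
        omega
      · have hJ5 : (x ^ 2 ^ n) ^ 5 ∈ J := by
          rw [← h.L_eq_one f (pow_mem (pow_mem hx _) 5), h.L_congr f _ (pow_mem hx (2 ^ n * 5)) (pow_mul x _ 5).symm,
            hpow, pow_mul, hd5]
        obtain ⟨m, hm⟩ := (IsPGroup.of_card (p := 2) (n := 10) (show Nat.card J = 2 ^ 10 by rw [h.card_J]; rfl))
          ⟨_, hJ5⟩
        exact eq_one_of_two_odd ⟨m, congrArg Subtype.val hm⟩ (hodd.of_dvd_nat (orderOf_pow_dvd 5))
      · rw [hpow]
        exact CfsgLib.Recognition.USixTwoOuter.Plane.fixIn_zpowers hv hgv |>.2 _ (Subgroup.pow_mem _ (Subgroup.mem_zpowers g) _)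
    by_cases h0 : h.co f he = 0
    · obtain ⟨d, hd, hdJ, hd5, -⟩ := key v₀ hv₀ hv₀0
      exact ⟨d, hd, hdJ, hd5, (hfixes hd he).2 (by rw [h0, map_zero])⟩
    · obtain ⟨d, hd, hdJ, hd5, hdv⟩ := key _ he' h0
      exact ⟨d, hd, hdJ, hd5, (hfixes hd he).2 hdv⟩
  · intro x hx hf
    refine (h.L_eq_one f hx).1 (hS.faith _ (h.L_GC f k hk hops hno hx) fun v hv => ?_)
    obtain ⟨e, he, rfl⟩ := h.co_surj f v
    exact (hfixes hx he).1 (hf e ⟨he, hv⟩)
  · have hm := mul_mem (mul_mem hp₁ hp₂) (inv_mem (mul_mem hp₂ hp₁))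
    rwa [hanti, mul_inv_cancel_right] at hm
  · rcases h.sq p₁ hp₁J with s1 | s1
    · rcases h.sq p₂ hp₂J with s2 | s2
      · refine ⟨p₁ * p₂, mul_mem hp₁W hp₂W, mul_mem hp₁ hp₂, ?_⟩
        calc p₁ * p₂ * (p₁ * p₂) = z * (p₂ * p₁) * (p₁ * p₂) := by rw [← hanti]
          _ = z * (p₂ * (p₁ * p₁) * p₂) := by group
          _ = z := by rw [s1, mul_one, s2, mul_one]
      · exact ⟨p₂, hp₂W, hp₂, s2⟩
    · exact ⟨p₁, hp₁W, hp₁, s1⟩
  · intro x hx hxJ hx2 d hd hdJ hd5 hc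
    have hmem : ∀ {y} (hy : y ∈ K), y ∈ J ↔ φ (h.kq hy) = 1 := fun {y} hy => by
      rw [h.hyp.ker]; exact (h.mem_Jq (x := ⟨y, h.K_ca hy⟩)).symm
    have hkqinv : ∀ {y} (hy : y ∈ K), h.kq (inv_mem hy) = (h.kq hy)⁻¹ := fun {y} hy =>
      Subtype.ext (map_inv q (⟨y, h.K_ca hy⟩ : ↥(Subgroup.centralizer ({a} : Set G))))
    have h1 : φ (h.kq hx) * φ (h.kq hx) = 1 := by
      rw [← map_mul, ← h.kq_mul hx hx]; exact (hmem _).1 hx2
    have h5 : φ (h.kq hd) ^ 5 = 1 := by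
      rw [← map_pow, show h.kq hd ^ 5 = 1 from Subtype.ext (by
        show q ⟨d, h.K_ca hd⟩ ^ 5 = 1
        rw [← map_pow, show (⟨d, h.K_ca hd⟩ : ↥(Subgroup.centralizer ({a} : Set G))) ^ 5 = 1 from Subtype.ext hd5,
          map_one]), map_one]
    have hdx := mul_mem (mul_mem (mul_mem hd hx) (inv_mem hd)) (inv_mem hx)
    have h6 := (hmem hdx).1 hc
    rw [h.kq_mul (mul_mem (mul_mem hd hx) (inv_mem hd)) (inv_mem hx), h.kq_mul (mul_mem hd hx) (inv_mem hd),
      h.kq_mul hd hx, hkqinv hd, hkqinv hx, map_mul, map_mul, map_mul, map_inv, map_inv, mul_inv_eq_one,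
      mul_inv_eq_iff_eq_mul] at h6
    exact hxJ ((hmem hx).2 (involution_five (h.hyp.range ▸ ⟨_, rfl⟩) (h.hyp.range ▸ ⟨_, rfl⟩) h1 h5
      (fun e => hdJ ((hmem hd).2 e)) h6))

end Quot

end CfsgLib.Recognition.USixCentral.Plane
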