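import Cfsg.Agent.Lib.KGroups.PSpFourThree.Main

/-!
# Involutions in the group of forty points

Every involution is a square, and none commutes with an element of order five.
-/

set_option autoImplicit false
set_option maxRecDepth 100000
set_option linter.unusedSectionVars false
set_option linter.style.haveILetI false

namespace CfsgLib.Recognition.USixCentral.Plane

open CfsgLib.KGroups.PSpFourThree
open CfsgLib.Recognition.USixTwoOuter (P40 gc K40 gc_mem)

/-- The number of fixed points. -/
def fixCount (g : P40) : ℕ := (Finset.univ.filter fun i => g i = i).card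

theorem fixCount_conj (g h : P40) : fixCount (h * g * h⁻¹) = fixCount g := by
  refine Finset.card_equiv h⁻¹ fun i => ?_
  simp only [Finset.mem_filter, Finset.mem_univ, true_and]
  show h (g (h⁻¹ i)) = i ↔ g (h⁻¹ i) = h⁻¹ i
  conv_lhs => rhs; rw [← Equiv.apply_symm_apply h i]
  exact h.injective.eq_iff

/-- An element of order four whose square fixes eight points. -/
def root8 : P40 := gc 0 * gc 0 * gc 4

/-- An element of order four whose square fixes no point. -/
def root0 : P40 := gc 0 * gc 0 * gc 1 * gc 4 * gc 14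

theorem roots_table : fixCount (root8 * root8) = 8 ∧ fixCount (root0 * root0) = 0 ∧
    root8 * root8 * (root8 * root8) = 1 ∧ root0 * root0 * (root0 * root0) = 1 ∧
    root8 * root8 ≠ 1 ∧ root0 * root0 ≠ 1 := by decide +kernel

theorem roots_mem : root8 ∈ K40 ∧ root0 ∈ K40 :=
  ⟨mul_mem (mul_mem (gc_mem 0) (gc_mem 0)) (gc_mem 4),
    mul_mem (mul_mem (mul_mem (mul_mem (gc_mem 0) (gc_mem 0)) (gc_mem 1)) (gc_mem 4)) (gc_mem 14)⟩

/-- Every involution is a square. -/
theorem involution_square {t : P40} (ht : t ∈ K40) (h2 : t * t = 1) : ∃ k ∈ K40, k * k = t := by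
  classical
  by_cases h1 : t = 1
  · exact ⟨1, one_mem _, by rw [h1, mul_one]⟩
  obtain ⟨T, -, f1, f2, f3⟩ := S40.exists_normalised no_index_two_forty
  have hF : Fused T := ⟨f1, f2, f3⟩
  have ho : ∀ {u : P40} (hu : u ∈ K40), u * u = 1 → u ≠ 1 → orderOf (⟨u, hu⟩ : K40) = 2 := fun hu e hne =>
    orderOf_eq_prime (by rw [pow_two]; exact Subtype.ext e) fun e' => hne (congrArg Subtype.val e')
  obtain ⟨t8, t0, e8, e0, o8, o0⟩ := roots_table
  set r8 : K40 := ⟨root8 * root8, mul_mem roots_mem.1 roots_mem.1⟩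
  set r0 : K40 := ⟨root0 * root0, mul_mem roots_mem.2 roots_mem.2⟩
  have hne : ∀ g : K40, g * r8 * g⁻¹ ≠ r0 := fun g e => by
    have := fixCount_conj (r8 : P40) (g : P40)
    rw [show (g : P40) * r8 * (g : P40)⁻¹ = r0 from congrArg Subtype.val e, t8, t0] at this
    omega
  have key : IsConj r8 ⟨t, ht⟩ ∨ IsConj r0 ⟨t, ht⟩ := by
    rcases T.two_classes hF (ho _ e8 o8) with a | a <;> rcases T.two_classes hF (ho _ e0 o0) with b | b <;>
      rcases T.two_classes hF (ho ht h2 h1) with c | c
    all_goals first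
      | exact Or.inl (a.symm.trans c)
      | exact Or.inr (b.symm.trans c)
      | (obtain ⟨g, hg⟩ := isConj_iff.1 (a.symm.trans b); exact absurd hg (hne g))
  rcases key with c | c <;> obtain ⟨g, hg⟩ := isConj_iff.1 c
  · refine ⟨(g : P40) * root8 * (g : P40)⁻¹, mul_mem (mul_mem g.2 roots_mem.1) (inv_mem g.2), ?_⟩
    rw [show (t : P40) = (g : P40) * (root8 * root8) * (g : P40)⁻¹ from (congrArg Subtype.val hg).symm]
    group
  · refine ⟨(g : P40) * root0 * (g : P40)⁻¹, mul_mem (mul_mem g.2 roots_mem.2) (inv_mem g.2), ?_⟩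
    rw [show (t : P40) = (g : P40) * (root0 * root0) * (g : P40)⁻¹ from (congrArg Subtype.val hg).symm]
    group

/-- No involution commutes with an element of order five. -/
theorem involution_five {t d : P40} (ht : t ∈ K40) (hd : d ∈ K40) (h2 : t * t = 1) (h5 : d ^ 5 = 1) (hd1 : d ≠ 1)
    (hc : d * t = t * d) : t = 1 := by
  classical
  by_contra h1
  obtain ⟨T, hT, f1, f2, f3⟩ := S40.exists_normalised no_index_two_forty
  have hF : Fused T := ⟨f1, f2, f3⟩
  have hot : orderOf (⟨t, ht⟩ : K40) = 2 :=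
    orderOf_eq_prime (by rw [pow_two]; exact Subtype.ext h2) fun e => h1 (congrArg Subtype.val e)
  haveI : Fact (Nat.Prime 5) := ⟨by norm_num⟩
  have hod : orderOf (⟨d, hd⟩ : K40) = 5 :=
    orderOf_eq_prime (Subtype.ext h5) fun e => hd1 (congrArg Subtype.val e)
  have hdvd : 5 ∣ Nat.card (Subgroup.centralizer ({(⟨t, ht⟩ : K40)} : Set K40)) :=
    hod ▸ Subgroup.orderOf_dvd_natCard _ (Subgroup.mem_centralizer_singleton_iff.2 (Subtype.ext hc))
  rcases T.two_classes hF hot with h | h <;> rw [← CfsgLib.Char.card_centralizer_eq_of_isConj h] at hdvd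
  · rw [show T.t = t40 from hT, card_cent_t40] at hdvd
    omega
  · have hc' : Nat.card (Subgroup.centralizer ({T.B} : Set K40)) = 96 := T.card_cB hF
    omega

end CfsgLib.Recognition.USixCentral.Plane
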