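import Cfsg.Agent.Lib.Recognition.USixTwoOuter.WLinear

/-!
# Two facts about the complement of the plane

An element of order dividing four has square fixing at least sixteen of its sixty-four vectors, and it has no totally
singular subgroup of order eight.
-/

set_option autoImplicit false
set_option linter.unusedSectionVars false
set_option linter.style.haveILetI false

namespace CfsgLib.Recognition.USixCentral.Plane

open CfsgLib.Recognition.USixTwoOuter (V)

theorem card_ker_comp {A : Type*} [AddCommGroup A] [Finite A] (M N : A →+ A) :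
    Nat.card (N.comp M).ker = Nat.card M.ker * Nat.card ↥(M.range ⊓ N.ker) := by
  set R := M.comp (N.comp M).ker.subtype with hR
  have h1 := R.ker.card_mul_index
  rw [AddSubgroup.index_ker] at h1
  have h2 : R.range = M.range ⊓ N.ker := by
    ext y
    constructor
    · rintro ⟨x, rfl⟩
      exact ⟨⟨x.1, rfl⟩, x.2⟩
    · rintro ⟨⟨x, rfl⟩, hy⟩
      exact ⟨⟨x, hy⟩, rfl⟩
  have h3 : Nat.card R.ker = Nat.card M.ker := Nat.card_congr
    { toFun := fun x => ⟨x.1.1, x.2⟩
      invFun := fun x => ⟨⟨x.1, by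
        show N (M x.1) = 0
        rw [show M x.1 = 0 from x.2, map_zero]⟩, x.2⟩
      left_inv := fun x => rfl
      right_inv := fun x => rfl }
  rw [h2, h3] at h1
  exact h1.symm

/-- The square of an element of order dividing four fixes at least sixteen of sixty-four vectors. -/
theorem square_fix {A : Type*} [AddCommGroup A] [Finite A] (h2 : ∀ x : A, x + x = 0) (hc : Nat.card A = 64)
    (s : A →+ A) (h4 : ∀ x, s (s (s (s x))) = x) : 16 ≤ Nat.card {x : A // s (s x) = x} := by
  set N : A →+ A := s + AddMonoidHom.id A with hN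
  have hNN : ∀ x, N (N x) = s (s x) + x := fun x => by
    simp only [hN, AddMonoidHom.add_apply, AddMonoidHom.id_apply, map_add]
    rw [add_assoc, ← add_assoc (s x) (s x) x, h2, zero_add]
  have e1 := card_ker_comp N N
  have e2 := card_ker_comp (N.comp N) N
  have e3 := card_ker_comp (N.comp (N.comp N)) N
  have htop : Nat.card (N.comp (N.comp (N.comp N))).ker = 64 := by
    rw [← hc]
    refine Nat.card_congr ((Equiv.subtypeUnivEquiv fun x => ?_))
    show N (N (N (N x))) = 0
    rw [hNN (N (N x)), hNN x, map_add, map_add, h4,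
      show x + s (s x) + (s (s x) + x) = (x + x) + (s (s x) + s (s x)) by abel, h2, h2, add_zero]
  have l0 : Nat.card ↥(N.range ⊓ N.ker) ≤ Nat.card N.ker :=
    Nat.card_le_card_of_injective _ (AddSubgroup.inclusion_injective inf_le_right)
  have l1 : Nat.card ↥((N.comp N).range ⊓ N.ker) ≤ Nat.card ↥(N.range ⊓ N.ker) :=
    Nat.card_le_card_of_injective _ (AddSubgroup.inclusion_injective
      (inf_le_inf_right _ (by rintro _ ⟨x, rfl⟩; exact ⟨N x, rfl⟩)))
  have l2 : Nat.card ↥((N.comp (N.comp N)).range ⊓ N.ker) ≤ Nat.card ↥((N.comp N).range ⊓ N.ker) :=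
    Nat.card_le_card_of_injective _ (AddSubgroup.inclusion_injective
      (inf_le_inf_right _ (by rintro _ ⟨x, rfl⟩; exact ⟨N x, rfl⟩)))
  have hfix : Nat.card {x : A // s (s x) = x} = Nat.card (N.comp N).ker := Nat.card_congr <|
    Equiv.subtypeEquivRight fun x => by
      show _ ↔ N (N x) = 0
      rw [hNN]
      exact ⟨fun e => by rw [e, h2], fun e => (eq_neg_of_add_eq_zero_left e).trans (neg_eq_of_add_eq_zero_left (h2 x))⟩
  rw [hfix]
  rw [htop, e2, e1] at e3
  by_contra hlt
  rw [e1] at hlt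
  push Not at hlt
  generalize Nat.card N.ker = a at *
  generalize Nat.card ↥(N.range ⊓ N.ker) = b at *
  generalize Nat.card ↥((N.comp N).range ⊓ N.ker) = c at *
  generalize Nat.card ↥((N.comp (N.comp N)).range ⊓ N.ker) = d at *
  have hb : b ≤ 3 := by nlinarith
  have hcd : c * d ≤ b * b := Nat.mul_le_mul l1 (l2.trans l1)
  interval_cases b <;> first
    | nlinarith
    | (have h3 : 3 ∣ 64 := ⟨a * c * d, by rw [e3]; ring⟩; omega)

/-- The character of `ZMod 2`. -/
def chi (t : ZMod 2) : ℤ := if t = 0 then 1 else -1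

theorem chi_add : ∀ s t : ZMod 2, chi (s + t) = chi s * chi t := by decide

theorem chi_ne : ∀ t : ZMod 2, t ≠ 0 → chi t = -1 := by decide

theorem chi_sum {α : Type*} [Fintype α] (f : α → ZMod 2) :
    (∑ x, chi (f x)) = 2 * ((Finset.univ.filter fun x => f x = 0).card : ℤ) - Fintype.card α := by
  classical
  have h1 : ∀ x, chi (f x) = 2 * (if f x = 0 then (1 : ℤ) else 0) - 1 := fun x => by
    by_cases hx : f x = 0 <;> simp [chi, hx]
  rw [Finset.sum_congr rfl fun x _ => h1 x, Finset.sum_sub_distrib, ← Finset.mul_sum, Finset.sum_boole,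
    Finset.sum_const, Finset.card_univ]
  simp

theorem sum_chi_hom {A : Type*} [AddCommGroup A] [Fintype A] (f : A →+ ZMod 2) :
    (∑ x, chi (f x)) = if f = 0 then (Fintype.card A : ℤ) else 0 := by
  by_cases hf : f = 0
  · subst hf
    simp [chi]
  rw [if_neg hf]
  obtain ⟨x₀, hx₀⟩ : ∃ x₀, f x₀ ≠ 0 := by
    by_contra hc
    push Not at hc
    exact hf (AddMonoidHom.ext hc)
  have h1 : (∑ x, chi (f x)) = ∑ x, chi (f (x + x₀)) := (Equiv.sum_comp (Equiv.addRight x₀) fun x => chi (f x)).symm
  simp only [map_add, chi_add, chi_ne _ hx₀, mul_neg, mul_one, Finset.sum_neg_distrib] at h1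
  omega

open CfsgLib.Recognition.USixTwoOuter.Plane (Aut8 perp fixIn beta_comm q_add pres_beta) in
/-- The complement has no totally singular subgroup of order eight. -/
theorem no_singular_eight {G₀ GC : Subgroup Aut8} {Q : QuadraticForm (ZMod 2) V} {F : AddSubgroup V}
    (h : CfsgLib.Recognition.USixTwoOuter.Plane.Sys G₀ GC Q F) {T : AddSubgroup V} (hT : T ≤ perp Q F)
    (hQ : ∀ x ∈ T, Q x = 0) : Nat.card T < 8 := by
  classical
  by_contra h8
  push Not at h8
  haveI := Fintype.ofFinite T
  haveI := Fintype.ofFinite (perp Q F)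
  have hPc : Fintype.card (perp Q F) = 64 := by rw [← Nat.card_eq_fintype_card]; exact h.cardP
  let B : ↥(perp Q F) → ↥T →+ ZMod 2 := fun x =>
    AddMonoidHom.mk' (fun t => QuadraticMap.polarBilin Q (x : V) t) fun s t => by simp only [AddSubgroup.coe_add, map_add]
  let B' : ↥T → ↥(perp Q F) →+ ZMod 2 := fun t =>
    AddMonoidHom.mk' (fun x => QuadraticMap.polarBilin Q (x : V) t) fun s x => by
      simp only [AddSubgroup.coe_add, map_add, LinearMap.add_apply]
  have hB' : ∀ t : T, B' t = 0 ↔ t = 0 := fun t => by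
    refine ⟨fun e => Subtype.ext (h.nondeg _ fun v => ?_), fun e => AddMonoidHom.ext fun x => ?_⟩
    · obtain ⟨u, hu, y, hy, rfl⟩ := h.dec v
      have hy' : QuadraticMap.polarBilin Q y (t : V) = 0 := DFunLike.congr_fun e ⟨y, hy⟩
      rw [map_add, beta_comm Q (t : V) u, hT t.2 u hu, beta_comm Q (t : V) y, hy', add_zero]
    · subst e
      exact map_zero (QuadraticMap.polarBilin Q (x : V))
  set Z : Finset ↥(perp Q F) := Finset.univ.filter fun x => B x = 0 with hZ
  have hcount : (Z.card : ℤ) * Fintype.card T = 64 := by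
    have h1 : (∑ x : ↥(perp Q F), ∑ t : T, chi (B x t)) = ∑ t : T, ∑ x : ↥(perp Q F), chi (B' t x) := Finset.sum_comm
    rw [Finset.sum_congr rfl fun x _ => sum_chi_hom (B x), Finset.sum_congr rfl fun t _ => sum_chi_hom (B' t),
      ← Finset.sum_filter, Finset.sum_const, Finset.sum_congr rfl fun t _ => if_congr (hB' t) rfl rfl,
      Finset.sum_ite_eq' Finset.univ (0 : T), if_pos (Finset.mem_univ _), hPc, nsmul_eq_mul] at h1
    exact_mod_cast h1
  -- `T` is its own orthogonal
  let ι : T → ↥(perp Q F) := fun t => ⟨t, hT t.2⟩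
  have hι : Function.Injective ι := fun s t e => Subtype.ext (congrArg (fun p : ↥(perp Q F) => (p : V)) e)
  have hsub : Finset.univ.image ι ⊆ Z := by
    intro x hx
    obtain ⟨t, -, rfl⟩ := Finset.mem_image.1 hx
    refine Finset.mem_filter.2 ⟨Finset.mem_univ _, AddMonoidHom.ext fun s => ?_⟩
    show QuadraticMap.polarBilin Q (t : V) s = 0
    have := q_add Q (t : V) s
    rwa [hQ _ t.2, hQ _ s.2, hQ _ (add_mem t.2 s.2), add_zero, zero_add, eq_comm] at this
  have hle : Fintype.card T ≤ Z.card := by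
    have := Finset.card_le_card hsub
    rwa [Finset.card_image_of_injective _ hι, Finset.card_univ] at this
  have hT8 : Fintype.card T = 8 ∧ Z.card = 8 := by
    rw [Nat.card_eq_fintype_card] at h8
    have h2 : Z.card * Fintype.card T = 64 := by exact_mod_cast hcount
    constructor <;> nlinarith
  have hZT : Z = Finset.univ.image ι := (Finset.eq_of_subset_of_card_le hsub (by
    rw [Finset.card_image_of_injective _ hι, Finset.card_univ, hT8.1, hT8.2])).symm
  -- thirty-six singular vectors
  set Sg : Finset ↥(perp Q F) := Finset.univ.filter fun x => Q (x : V) = 0 with hSg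
  have h36 : Sg.card = 36 := by
    have h1 : (∑ x : ↥(perp Q F), ∑ t : T, chi (Q ((x : V) + t))) = ∑ t : T, ∑ x : ↥(perp Q F), chi (Q (x : V)) := by
      rw [Finset.sum_comm]
      exact Finset.sum_congr rfl fun t _ => Equiv.sum_comp (Equiv.addRight (ι t)) fun x => chi (Q (x : V))
    have h2 : ∀ x : ↥(perp Q F), (∑ t : T, chi (Q ((x : V) + t))) =
        if B x = 0 then (Fintype.card T : ℤ) else 0 := by
      intro x
      have e : ∀ t : T, chi (Q ((x : V) + t)) = chi (Q (x : V)) * chi (B x t) := fun t => by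
        rw [q_add, hQ _ t.2, add_zero, chi_add]; rfl
      rw [Finset.sum_congr rfl fun t _ => e t, ← Finset.mul_sum, sum_chi_hom]
      by_cases hx : B x = 0
      · have hxZ : x ∈ Z := Finset.mem_filter.2 ⟨Finset.mem_univ _, hx⟩
        rw [hZT] at hxZ
        obtain ⟨t, -, rfl⟩ := Finset.mem_image.1 hxZ
        rw [if_pos hx, show Q ((ι t : ↥(perp Q F)) : V) = 0 from hQ _ t.2]
        simp [chi]
      · simp [hx]
    rw [Finset.sum_congr rfl fun x _ => h2 x, ← Finset.sum_filter, Finset.sum_const, Finset.sum_const, ← hZ, hT8.1,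
      hT8.2, Finset.card_univ, hT8.1, chi_sum, hPc, ← hSg] at h1
    simp only [nsmul_eq_mul, Nat.cast_ofNat] at h1
    omega
  -- an element of order five fixing one of them
  obtain ⟨t, ht⟩ : ∃ t : T, t ≠ 0 := by
    by_contra hc
    push Not at hc
    haveI : Subsingleton T := ⟨fun a b => (hc a).trans (hc b).symm⟩
    have := Fintype.card_le_one_iff_subsingleton.2 (inferInstance : Subsingleton T)
    omega
  have ht0 : (t : V) ≠ 0 := fun e => ht (Subtype.ext e)
  obtain ⟨g, hg, hg5, hgt⟩ := h.five _ (hT t.2) ht0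
  have hfc := h.fix_card hg hg5 (hT t.2) ht0 hgt
  haveI : Fact (Nat.Prime 5) := ⟨by norm_num⟩
  haveI := CfsgLib.Recognition.USixTwoOuter.Plane.finite_aut8
  have hGC : ∀ p ∈ Subgroup.zpowers g, p ∈ GC := fun p hp => (Subgroup.zpowers_le.2 (h.le hg)) hp
  letI : MulAction ↥(Subgroup.zpowers g) {x : ↥(perp Q F) // x ∈ Sg} :=
    { smul := fun p x => ⟨⟨(p : Aut8) (x.1 : V), h.presP (hGC p p.2) x.1.2⟩, Finset.mem_filter.2
        ⟨Finset.mem_univ _, (h.pres _ (hGC p p.2) _).trans (Finset.mem_filter.1 x.2).2⟩⟩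
      one_smul := fun x => Subtype.ext (Subtype.ext rfl)
      mul_smul := fun p p' x => Subtype.ext (Subtype.ext rfl) }
  have hmod := (IsPGroup.of_card (p := 5) (n := 1) (G := ↥(Subgroup.zpowers g))
    (by rw [Nat.card_zpowers, hg5, pow_one])).card_modEq_card_fixedPoints {x : ↥(perp Q F) // x ∈ Sg}
  haveI := Fintype.ofFinite ↥(MulAction.fixedPoints ↥(Subgroup.zpowers g) {x : ↥(perp Q F) // x ∈ Sg})
  rw [Nat.card_eq_fintype_card (α := {x : ↥(perp Q F) // x ∈ Sg}), Fintype.card_coe, h36, Nat.ModEq] at hmod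
  set Fx := MulAction.fixedPoints ↥(Subgroup.zpowers g) {x : ↥(perp Q F) // x ∈ Sg} with hFx
  have hup : Nat.card ↥Fx ≤ 4 := by
    rw [← hfc]
    refine Nat.card_le_card_of_injective
      (fun x => (⟨(x.1.1.1 : V), x.1.1.2, fun p hp => congrArg (fun y : {x : ↥(perp Q F) // x ∈ Sg} => (y.1 : V))
        (x.2 ⟨p, hp⟩)⟩ : ↥(fixIn (Subgroup.zpowers g) (perp Q F)))) fun x y e => ?_
    exact Subtype.ext (Subtype.ext (Subtype.ext (congrArg
      (fun y : ↥(fixIn (Subgroup.zpowers g) (perp Q F)) => (y : V)) e)))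
  have hlow : 2 ≤ Nat.card ↥Fx := by
    have hgfix : ∀ p ∈ Subgroup.zpowers g, (p : Aut8) (t : V) = t := fun p hp =>
      (CfsgLib.Recognition.USixTwoOuter.Plane.fixIn_zpowers (hT t.2) hgt).2 p hp
    let F2 : Bool → ↥Fx := fun b =>
      if b then ⟨⟨ι t, Finset.mem_filter.2 ⟨Finset.mem_univ _, hQ _ t.2⟩⟩, fun p =>
        Subtype.ext (Subtype.ext (hgfix p p.2))⟩
      else ⟨⟨0, Finset.mem_filter.2 ⟨Finset.mem_univ _, QuadraticMap.map_zero Q⟩⟩, fun p =>
        Subtype.ext (Subtype.ext (map_zero (p : Aut8)))⟩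
    have hinj : Function.Injective F2 := by
      intro x y e
      have e' := congrArg (fun z : ↥Fx => (z.1.1 : V)) e
      cases x <;> cases y <;> simp only [F2, Bool.false_eq_true, if_false, if_true] at e' <;>
        first | rfl | exact absurd e' ht0 | exact absurd e'.symm ht0
    have := Nat.card_le_card_of_injective F2 hinj
    simpa using this
  omega

end CfsgLib.Recognition.USixCentral.Plane
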