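import Cfsg.Agent.Lib.Recognition.USixCentral.Plane.Coords
import Cfsg.Agent.Lib.Recognition.USixCentral.Plane.Linear
import Cfsg.Agent.Lib.Recognition.USixCentral.Plane.Forty

/-!
# The complement of `⟨a⟩` in `W` and roots of `z`

A diagonal element `d` without fixed points on the complement of the plane gives a subgroup of `W` invariant under `K`
missing `a`, so commutators of `K` with `W` in the centre of `J` lie in `⟨z⟩`. Hence an involution of `K` centralises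
an element of `W` of square `z`.
-/

set_option autoImplicit false
set_option maxRecDepth 100000
set_option linter.unusedSectionVars false
set_option linter.style.haveILetI false

namespace CfsgLib.Recognition.USixCentral.Plane

open CfsgLib.ThreeTransp
open CfsgLib.Recognition.USixTwoOuter (P40 K40 V gen N3 ew Hyp Ops Seed op act opsOf plane G0)

theorem diag_move : ∀ i : Fin 6, ∃ n : N3,
    gen i * ((ew ![2, 2, 2]).map gen).prod = ((ew n).map gen).prod * gen i := by decide +kernel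

theorem diag_comm : ∀ n : N3, ((ew n).map gen).prod * ((ew ![2, 2, 2]).map gen).prod =
    ((ew ![2, 2, 2]).map gen).prod * ((ew n).map gen).prod := by decide +kernel

variable {G : Type*} [Group G] [Finite G]

namespace Quot

variable {z a : G} {J K : Subgroup G} {Q : Type*} [Group Q] [Finite Q]
  {q : ↥(Subgroup.centralizer ({a} : Set G)) →* Q} {Jq Kq : Subgroup Q} {zb : Q} {φ : ↥Kq →* P40}
  (h : Quot z a J K q Jq Kq zb φ) (f : ExtraspecialOut.Frame ↥Jq 8)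
include h

/-- An element of `K` in coordinates. -/
noncomputable def L {x : G} (hx : x ∈ K) : V ≃ₗ[ZMod 2] V :=
  CfsgLib.Recognition.USixTwoOuter.lin f h.hyp Kq h.hyp.K_le (h.kq hx)

theorem L_congr {x y : G} (hx : x ∈ K) (hy : y ∈ K) (e : x = y) : h.L f hx = h.L f hy := by subst e; rfl

theorem L_mul {x y : G} (hx : x ∈ K) (hy : y ∈ K) : h.L f (mul_mem hx hy) = h.L f hx * h.L f hy := by
  rw [L, h.kq_mul hx hy, map_mul]; rfl

theorem L_inv {x : G} (hx : x ∈ K) : h.L f (inv_mem hx) = (h.L f hx)⁻¹ := by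
  have : h.kq (inv_mem hx) = (h.kq hx)⁻¹ :=
    Subtype.ext (map_inv q (⟨x, h.K_ca hx⟩ : ↥(Subgroup.centralizer ({a} : Set G))))
  rw [L, this, map_inv]; rfl

theorem L_eq_one {x : G} (hx : x ∈ K) : h.L f hx = 1 ↔ x ∈ J := by
  rw [L, CfsgLib.Recognition.USixTwoOuter.lin_eq_one]
  exact h.mem_Jq

theorem L_eq {x y : G} (hx : x ∈ K) (hy : y ∈ K) (e : φ (h.kq hx) = φ (h.kq hy)) : h.L f hx = h.L f hy := by
  have h1 : ((h.kq hy)⁻¹ * h.kq hx : ↥Kq).1 ∈ Jq := (h.hyp.ker _).1 (by rw [map_mul, map_inv, e, inv_mul_cancel])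
  have h2 := (CfsgLib.Recognition.USixTwoOuter.lin_eq_one h.hyp f Kq h.hyp.K_le _).2 h1
  rw [map_mul, map_inv, inv_mul_eq_one] at h2
  exact h2.symm

theorem L_act {x j : G} (hx : x ∈ K) (hj : j ∈ J) :
    h.L f hx (h.co f hj) = h.co f (h.norm x (h.K_z x hx) j hj) := h.co_act f hx hj

theorem exists_L (g : ↥Kq) : ∃ x, ∃ hx : x ∈ K, h.kq hx = g := by
  obtain ⟨g, hg⟩ := g
  obtain ⟨x, hx, e⟩ := h.exists_Kq hg
  exact ⟨x, hx, Subtype.ext e⟩

variable (k : Fin 6 → ↥Kq) (hk : ∀ i, φ (k i) = gen i)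
  (hops : Ops (opsOf h.hyp f k) (fun v => ExtraspecialOut.Q f v) (QuadraticMap.polarBilin (ExtraspecialOut.Q f)))
  (hno : ∀ x, ¬ Seed (opsOf h.hyp f k) x)

theorem exists_op (n : N3) : ∃ x, ∃ hx : x ∈ K, φ (h.kq hx) = φ ((ew n).map k).prod ∧
    ∀ v, h.L f hx v = op (opsOf h.hyp f k) n v := by
  obtain ⟨x, hx, e⟩ := h.exists_L ((ew n).map k).prod
  refine ⟨x, hx, by rw [e], fun v => ?_⟩
  rw [L, e]
  exact (CfsgLib.Recognition.USixTwoOuter.act_eq h.hyp f k (ew n) v).symm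

/-- The plane pulled back. -/
noncomputable def Xs : Subgroup G where
  carrier := {j | ∃ hj : j ∈ J, h.co f hj ∈ plane h.hyp f k}
  one_mem' := ⟨one_mem _, by rw [h.co_one f]; exact zero_mem _⟩
  mul_mem' := fun {x y} ⟨hx, hx'⟩ ⟨hy, hy'⟩ => ⟨mul_mem hx hy, by rw [h.co_mul f hx hy]; exact add_mem hx' hy'⟩
  inv_mem' := fun {x} ⟨hx, hx'⟩ => ⟨inv_mem hx, by rw [h.co_inv f hx]; exact hx'⟩

/-- The complement pulled back. -/
noncomputable def Ws : Subgroup G where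
  carrier := {j | ∃ hj : j ∈ J, h.co f hj ∈
    CfsgLib.Recognition.USixTwoOuter.Plane.perp (ExtraspecialOut.Q f) (plane h.hyp f k)}
  one_mem' := ⟨one_mem _, by rw [h.co_one f]; exact zero_mem _⟩
  mul_mem' := fun {x y} ⟨hx, hx'⟩ ⟨hy, hy'⟩ => ⟨mul_mem hx hy, by rw [h.co_mul f hx hy]; exact add_mem hx' hy'⟩
  inv_mem' := fun {x} ⟨hx, hx'⟩ => ⟨inv_mem hx, by rw [h.co_inv f hx]; exact hx'⟩

theorem inZ_Ws {c : G} (hc : InZ z a c) : c ∈ h.Ws f k := ⟨h.inZ_mem hc, by rw [h.co_inZ f hc]; exact zero_mem _⟩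

theorem K_comm_inZ {x c : G} (hx : x ∈ K) (hc : InZ z a c) : x * c = c * x := by
  rcases hc with rfl | rfl | rfl | rfl
  · rw [mul_one, one_mul]
  · exact h.K_z x hx
  · exact h.K_a x hx
  · rw [← mul_assoc, h.K_z x hx, mul_assoc, h.K_a x hx, ← mul_assoc]

/-- Conjugating in `J` changes at most by `z`. -/
theorem conj_cases {i m : G} (hi : i ∈ J) (hm : m ∈ J) : i * m * i⁻¹ = m ∨ i * m * i⁻¹ = z * m := by
  rcases h.comm i hi m hm with e | e
  · exact Or.inl (mul_inv_eq_iff_eq_mul.2 e)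
  · exact Or.inr (mul_inv_eq_iff_eq_mul.2 (by rw [e, mul_assoc]))

include hk hops hno

theorem sys : CfsgLib.Recognition.USixTwoOuter.Plane.Sys (G0 h.hyp f)
    (CfsgLib.Recognition.USixTwoOuter.linC h.hyp f).range (ExtraspecialOut.Q f) (plane h.hyp f k) :=
  CfsgLib.Recognition.USixTwoOuter.plane_sys h.hyp f k hk hops hno h.hKn h.hidx h.hcc

theorem L_GC {x : G} (hx : x ∈ K) : h.L f hx ∈ (CfsgLib.Recognition.USixTwoOuter.linC h.hyp f).range :=
  (h.sys f k hk hops hno).le ⟨_, rfl⟩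

theorem L_fix_plane {x : G} (hx : x ∈ K) {v : V} (hv : v ∈ plane h.hyp f k) : h.L f hx v = v :=
  (h.sys f k hk hops hno).triv _ ⟨_, rfl⟩ v hv

theorem W_conj {x e : G} (hx : x ∈ K) (he : e ∈ h.Ws f k) : x * e * x⁻¹ ∈ h.Ws f k := by
  obtain ⟨hj, he⟩ := he
  exact ⟨h.norm x (h.K_z x hx) e hj, h.L_act f hx hj ▸ (h.sys f k hk hops hno).presP (h.L_GC f k hk hops hno hx) he⟩

theorem diag_fixed_zero {v : V}
    (hv : v ∈ CfsgLib.Recognition.USixTwoOuter.Plane.perp (ExtraspecialOut.Q f) (plane h.hyp f k))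
    (e : op (opsOf h.hyp f k) ![2, 2, 2] v = v) : v = 0 := by
  obtain ⟨p, p', p'', hp, hp', hp'', rfl⟩ :=
    (show CfsgLib.Recognition.USixTwoOuter.Pp (opsOf h.hyp f k) (QuadraticMap.polarBilin (ExtraspecialOut.Q f)) v
      from hv).parts hops hno
  set F := opsOf h.hyp f k
  set n : N3 := ![2, 2, 2]
  have hm : (0 : V) + (CfsgLib.Recognition.USixTwoOuter.mv F n p + CfsgLib.Recognition.USixTwoOuter.mv F n p' +
      CfsgLib.Recognition.USixTwoOuter.mv F n p'') = 0 := by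
    simp only [CfsgLib.Recognition.USixTwoOuter.mv]
    rw [CfsgLib.Recognition.USixTwoOuter.op_map_add, CfsgLib.Recognition.USixTwoOuter.op_map_add] at e
    calc (0 : V) + (p + op F n p + (p' + op F n p') + (p'' + op F n p''))
        = (p + p' + p'') + (op F n p + op F n p' + op F n p'') := by abel
      _ = 0 := by rw [e, ZModModule.add_self]
  have hmove : ∀ {w : V}, CfsgLib.Recognition.USixTwoOuter.mv F n w = 0 → op F n w = w := fun {w} h0 =>
    (eq_neg_of_add_eq_zero_right h0).trans (ZModModule.neg_eq_self w)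
  obtain ⟨-, e1, e2, e3⟩ := CfsgLib.Recognition.USixTwoOuter.parts_zero hops hno
    (fun _ => CfsgLib.Recognition.USixTwoOuter.op_map_zero _)
    (CfsgLib.Recognition.USixTwoOuter.mv_wt hops hp n) (CfsgLib.Recognition.USixTwoOuter.mv_wt hops hp' n)
    (CfsgLib.Recognition.USixTwoOuter.mv_wt hops hp'' n) hm
  rw [CfsgLib.Recognition.USixTwoOuter.Wt.eq_zero hops hp
      (CfsgLib.Recognition.USixTwoOuter.sum_dot 4 (by decide) (by decide)) (hmove e1),
    CfsgLib.Recognition.USixTwoOuter.Wt.eq_zero hops hp'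
      (CfsgLib.Recognition.USixTwoOuter.sum_dot 5 (by decide) (by decide)) (hmove e2),
    CfsgLib.Recognition.USixTwoOuter.Wt.eq_zero hops hp''
      (CfsgLib.Recognition.USixTwoOuter.sum_dot 6 (by decide) (by decide)) (hmove e3), add_zero, add_zero]

/-- A commutator of `K` with `W` in the centre of `J` lies in `⟨z⟩`. -/
theorem no_a {x e : G} (hx : x ∈ K) (he : e ∈ h.Ws f k) (hc : InZ z a (x * e * x⁻¹ * e⁻¹)) :
    x * e * x⁻¹ * e⁻¹ = 1 ∨ x * e * x⁻¹ * e⁻¹ = z := by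
  classical
  obtain ⟨d, hd, hdφ, hdop⟩ := h.exists_op f k ![2, 2, 2]
  have hW : ∀ {w}, w ∈ h.Ws f k → w ∈ J := fun hw => hw.1
  have hcw : ∀ {y w}, y ∈ K → w ∈ h.Ws f k → y * w * y⁻¹ * w⁻¹ ∈ h.Ws f k := fun hy hw =>
    mul_mem (h.W_conj f k hk hops hno hy hw) (inv_mem hw)
  let Tc : Set G := {t | ∃ w ∈ h.Ws f k, t = d * w * d⁻¹ * w⁻¹ ∨ t = z * (d * w * d⁻¹ * w⁻¹)}
  have hTW : ∀ t ∈ Tc, t ∈ h.Ws f k := by
    rintro _ ⟨w, hw, rfl | rfl⟩
    · exact hcw hd hw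
    · exact mul_mem (h.inZ_Ws f k (Or.inr (Or.inl rfl))) (hcw hd hw)
  have hzT : ∀ t ∈ Tc, z * t ∈ Tc := by
    rintro _ ⟨w, hw, rfl | rfl⟩
    · exact ⟨w, hw, Or.inr rfl⟩
    · exact ⟨w, hw, Or.inl (by rw [← mul_assoc, h.zz, one_mul])⟩
  have hmulT : ∀ s ∈ Tc, ∀ t ∈ Tc, s * t ∈ Tc := by
    have base : ∀ u ∈ h.Ws f k, ∀ w ∈ h.Ws f k,
        d * u * d⁻¹ * u⁻¹ * (d * w * d⁻¹ * w⁻¹) ∈ Tc := by
      intro u hu w hw
      have e1 : d * (u * w) * d⁻¹ * (u * w)⁻¹ = d * u * d⁻¹ * u⁻¹ * (u * (d * w * d⁻¹ * w⁻¹) * u⁻¹) := by group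
      rcases h.conj_cases (hW hu) (hW (hcw hd hw)) with e2 | e2 <;> rw [e2] at e1
      · exact ⟨u * w, mul_mem hu hw, Or.inl e1.symm⟩
      · refine ⟨u * w, mul_mem hu hw, Or.inr ?_⟩
        rw [e1, ← mul_assoc _ z, h.J_z _ (hW (hcw hd hu)), mul_assoc z, ← mul_assoc z z, h.zz, one_mul]
    rintro _ ⟨u, hu, rfl | rfl⟩ _ ⟨w, hw, rfl | rfl⟩
    · exact base u hu w hw
    · rw [← mul_assoc _ z, h.J_z _ (hW (hcw hd hu)), mul_assoc]; exact hzT _ (base u hu w hw)
    · rw [mul_assoc]; exact hzT _ (base u hu w hw)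
    · rw [mul_assoc, ← mul_assoc _ z, h.J_z _ (hW (hcw hd hu)), mul_assoc, ← mul_assoc z z, h.zz, one_mul]
      exact base u hu w hw
  have hone : (1 : G) ∈ Tc := ⟨1, one_mem _, Or.inl (by group)⟩
  have hinvT : ∀ t ∈ Tc, t⁻¹ ∈ Tc := fun t ht => by
    rcases h.sq t (hW (hTW t ht)) with e1 | e1
    · rwa [inv_eq_of_mul_eq_one_right e1]
    · rw [inv_eq_of_mul_eq_one_right (show t * (z * t) = 1 by
        rw [← mul_assoc, h.J_z t (hW (hTW t ht)), mul_assoc, e1, h.zz])]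
      exact hzT t ht
  have hTZ : ∀ t ∈ Tc, InZ z a t → t = 1 ∨ t = z := by
    intro t ht htZ
    obtain ⟨w, hw, hte⟩ := ht
    have hzz' : InZ z a (d * w * d⁻¹ * w⁻¹) := by
      rcases hte with rfl | rfl
      · exact htZ
      · refine (h.co_eq_zero f (hW (hcw hd hw))).1 ?_
        have := h.co_inZ f htZ
        rw [h.co_congr f (h.inZ_mem htZ) (mul_mem h.z_mem (hW (hcw hd hw))) rfl, h.co_mul f h.z_mem,
          (h.co_eq_zero f h.z_mem).2 (Or.inr (Or.inl rfl)), zero_add] at this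
        exact this
    obtain ⟨hwJ, hwP⟩ := hw
    have hfix : op (opsOf h.hyp f k) ![2, 2, 2] (h.co f hwJ) = h.co f hwJ := by
      rw [← hdop, h.L_act f hd hwJ]
      have := h.inZ_of_co
      have e0 := h.co_inZ f hzz'
      rw [h.co_congr f (h.inZ_mem hzz') (mul_mem (h.norm d (h.K_z d hd) w hwJ) (inv_mem hwJ)) rfl,
        h.co_mul f (h.norm d (h.K_z d hd) w hwJ) (inv_mem hwJ), h.co_inv f hwJ] at e0
      exact (eq_neg_of_add_eq_zero_left e0).trans (ZModModule.neg_eq_self _)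
    have hwZ := (h.co_eq_zero f hwJ).1 (h.diag_fixed_zero f k hk hops hno hwP hfix)
    rw [h.K_comm_inZ hd hwZ, mul_inv_cancel_right, mul_inv_cancel, mul_one] at hte
    exact hte
  -- every element of `W` is an element of `T` times a central one
  have hdec : ∀ w ∈ h.Ws f k, ∃ t ∈ Tc, InZ z a (t⁻¹ * w) := by
    intro w hw
    obtain ⟨hwJ, hwP⟩ := hw
    set P' := CfsgLib.Recognition.USixTwoOuter.Plane.perp (ExtraspecialOut.Q f) (plane h.hyp f k)
    let N : ↥P' → ↥P' := fun v =>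
      ⟨h.L f hd v + v, add_mem ((h.sys f k hk hops hno).presP (h.L_GC f k hk hops hno hd) v.2) v.2⟩
    have hN : Function.Injective N := fun u v e1 => by
      have e2 : h.L f hd (u : V) + u = h.L f hd (v : V) + v := congrArg (fun p : ↥P' => (p : V)) e1
      have e3 : op (opsOf h.hyp f k) ![2, 2, 2] ((u : V) + v) = u + v := by
        rw [← hdop, map_add]
        calc h.L f hd (u : V) + h.L f hd (v : V)
            = (h.L f hd (u : V) + u) + (h.L f hd (v : V) + v) + ((u : V) + v) := by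
              rw [show ∀ A B C D : V, A + C + (B + D) + (C + D) = A + B + ((C + C) + (D + D)) from fun A B C D => by
                abel, ZModModule.add_self, ZModModule.add_self, add_zero, add_zero]
          _ = _ := by rw [e2, ZModModule.add_self, zero_add]
      have e4 := h.diag_fixed_zero f k hk hops hno (add_mem u.2 v.2) e3
      exact Subtype.ext ((eq_neg_of_add_eq_zero_left e4).trans (ZModModule.neg_eq_self _))
    obtain ⟨⟨v, hv⟩, hNv⟩ := (Finite.injective_iff_surjective.1 hN) ⟨_, hwP⟩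
    have hNv' : h.L f hd v + v = h.co f hwJ := congrArg (fun p : ↥P' => (p : V)) hNv
    obtain ⟨u, huJ, rfl⟩ := h.co_surj f v
    refine ⟨d * u * d⁻¹ * u⁻¹, ⟨u, ⟨huJ, hv⟩, Or.inl rfl⟩,
      h.inZ_of_co f (mul_mem (h.norm d (h.K_z d hd) u huJ) (inv_mem huJ)) hwJ ?_⟩
    rw [h.co_mul f (h.norm d (h.K_z d hd) u huJ) (inv_mem huJ), h.co_inv f huJ, ← h.L_act f hd huJ, hNv']
  -- elements moving `d` to `d'`
  have hbase : ∀ y (hy : y ∈ K) d' (hd' : d' ∈ K), h.L f hy * h.L f hd = h.L f hd' * h.L f hy →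
      (∀ w ∈ h.Ws f k, d' * w * d'⁻¹ * w⁻¹ ∈ Tc) → ∀ t ∈ Tc, y * t * y⁻¹ ∈ Tc := by
    intro y hy d' hd' hLL hd'T t ht
    obtain ⟨w, hw, hte⟩ := ht
    have hw' : y * w * y⁻¹ ∈ h.Ws f k := h.W_conj f k hk hops hno hy hw
    have hjK : d'⁻¹ * (y * d * y⁻¹) ∈ K := mul_mem (inv_mem hd') (mul_mem (mul_mem hy hd) (inv_mem hy))
    have hjJ : d'⁻¹ * (y * d * y⁻¹) ∈ J := by
      rw [← h.L_eq_one f hjK, h.L_mul f (inv_mem hd') (mul_mem (mul_mem hy hd) (inv_mem hy)), h.L_inv f hd',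
        h.L_mul f (mul_mem hy hd) (inv_mem hy), h.L_mul f hy hd, h.L_inv f hy, hLL]
      group
    set j := d'⁻¹ * (y * d * y⁻¹) with hj
    set w' := y * w * y⁻¹ with hw'def
    have e1 : y * (d * w * d⁻¹ * w⁻¹) * y⁻¹ = d' * (j * w' * j⁻¹ * w'⁻¹) * d'⁻¹ * (d' * w' * d'⁻¹ * w'⁻¹) := by
      rw [hj, hw'def]; group
    have hcT : y * (d * w * d⁻¹ * w⁻¹) * y⁻¹ ∈ Tc := by
      rw [e1]
      rcases h.conj_cases hjJ (hW hw') with e2 | e2 <;> rw [e2]
      · rw [mul_inv_cancel, mul_one, mul_inv_cancel, one_mul]; exact hd'T _ hw'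
      · rw [mul_inv_cancel_right, h.K_z d' hd', mul_inv_cancel_right]; exact hzT _ (hd'T _ hw')
    rcases hte with rfl | rfl
    · exact hcT
    · rw [show y * (z * (d * w * d⁻¹ * w⁻¹)) * y⁻¹ = y * z * (d * w * d⁻¹ * w⁻¹) * y⁻¹ by group, h.K_z y hy,
        show z * y * (d * w * d⁻¹ * w⁻¹) * y⁻¹ = z * (y * (d * w * d⁻¹ * w⁻¹) * y⁻¹) by group]
      exact hzT _ hcT
  have hmoves : ∀ y ∈ K, (∀ t ∈ Tc, y * t * y⁻¹ ∈ Tc) → ∀ w ∈ h.Ws f k, y * w * y⁻¹ * w⁻¹ ∈ Tc := by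
    intro y hy hyT w hw
    obtain ⟨t, ht, hc⟩ := hdec w hw
    have e1 : y * w * y⁻¹ * w⁻¹ = y * t * y⁻¹ * t⁻¹ := by
      calc y * w * y⁻¹ * w⁻¹ = y * t * (t⁻¹ * w) * y⁻¹ * (t⁻¹ * w)⁻¹ * t⁻¹ := by group
        _ = y * t * (y⁻¹ * (t⁻¹ * w)) * (t⁻¹ * w)⁻¹ * t⁻¹ := by
          rw [h.K_comm_inZ (inv_mem hy) hc]; group
        _ = _ := by group
    rw [e1]
    exact hmulT _ (hyT t ht) _ (hinvT t ht)
  have hdiag : ∀ n y (hy : y ∈ K), φ (h.kq hy) = φ ((ew n).map k).prod → ∀ w ∈ h.Ws f k, y * w * y⁻¹ * w⁻¹ ∈ Tc := by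
    intro n y hy hyφ
    refine hmoves y hy (hbase y hy d hd ?_ fun w hw => ⟨w, hw, Or.inl rfl⟩)
    rw [← h.L_mul f hy hd, ← h.L_mul f hd hy]
    apply h.L_eq f
    rw [h.kq_mul hy hd, h.kq_mul hd hy, map_mul, map_mul, hyφ, hdφ, map_list_prod, map_list_prod,
      List.map_map, List.map_map, show ⇑φ ∘ k = gen from funext hk]
    exact diag_comm n
  have hall : ∀ y ∈ K, ∀ t ∈ Tc, y * t * y⁻¹ ∈ Tc := by
    let S : Subgroup ↥Kq :=
      { carrier := {g | ∀ y (hy : y ∈ K), h.kq hy = g → ∀ t ∈ Tc, y * t * y⁻¹ ∈ Tc}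
        one_mem' := by
          intro y hy e1 t ht
          have hyJ : y ∈ J := h.mem_Jq.1 (show q ⟨y, h.K_ca hy⟩ ∈ Jq by
            rw [show q ⟨y, h.K_ca hy⟩ = 1 from congrArg Subtype.val e1]; exact one_mem _)
          rcases h.conj_cases hyJ (hW (hTW t ht)) with e2 | e2 <;> rw [e2]
          · exact ht
          · exact hzT t ht
        mul_mem' := by
          intro g g' hg hg' y hy e1 t ht
          obtain ⟨y₁, hy₁, rfl⟩ := h.exists_L g
          obtain ⟨y₂, hy₂, rfl⟩ := h.exists_L g'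
          have hyJ : (y₁ * y₂)⁻¹ * y ∈ J := by
            have hm : (y₁ * y₂)⁻¹ * y ∈ K := mul_mem (inv_mem (mul_mem hy₁ hy₂)) hy
            rw [← h.L_eq_one f hm, h.L_mul f (inv_mem (mul_mem hy₁ hy₂)) hy, h.L_inv f (mul_mem hy₁ hy₂),
              h.L_eq f hy (mul_mem hy₁ hy₂) (by rw [e1, h.kq_mul hy₁ hy₂]), inv_mul_cancel]
          set j := (y₁ * y₂)⁻¹ * y with hj
          have : j * t * j⁻¹ ∈ Tc := by
            rcases h.conj_cases hyJ (hW (hTW t ht)) with e2 | e2 <;> rw [e2]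
            · exact ht
            · exact hzT t ht
          have h1 := hg _ hy₁ rfl _ (hg' _ hy₂ rfl _ this)
          rwa [show y₁ * (y₂ * (j * t * j⁻¹) * y₂⁻¹) * y₁⁻¹ = y * t * y⁻¹ by rw [hj]; group] at h1
        inv_mem' := by
          intro g hg y hy e1 t ht
          have hinj : Function.Injective (fun s : Tc => (⟨y⁻¹ * s.1 * y⁻¹⁻¹,
              hg y⁻¹ (inv_mem hy) (by
                have : h.kq (inv_mem hy) = (h.kq hy)⁻¹ :=
                  Subtype.ext (map_inv q (⟨y, h.K_ca hy⟩ : ↥(Subgroup.centralizer ({a} : Set G))))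
                rw [this, e1, inv_inv]) s.1 s.2⟩ : Tc)) := fun s s' e2 => by
            have e3 : y⁻¹ * s.1 * y⁻¹⁻¹ = y⁻¹ * s'.1 * y⁻¹⁻¹ := congrArg Subtype.val e2
            exact Subtype.ext (mul_left_cancel (mul_right_cancel e3))
          obtain ⟨s, hs⟩ := (Finite.injective_iff_surjective.1 hinj) ⟨t, ht⟩
          have hs' : y⁻¹ * s.1 * y⁻¹⁻¹ = t := congrArg Subtype.val hs
          rw [← hs', show y * (y⁻¹ * s.1 * y⁻¹⁻¹) * y⁻¹ = s.1 by group]
          exact s.2 }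
    have hS : S = ⊤ := CfsgLib.Recognition.USixTwoOuter.generate h.hyp k hk S (fun i => ?_) (fun g hg => ?_)
    · exact fun y hy => (hS ▸ Subgroup.mem_top (h.kq hy) : h.kq hy ∈ S) y hy rfl
    · intro y hy e1
      obtain ⟨n, hn⟩ := diag_move i
      obtain ⟨d', hd', hd'φ, -⟩ := h.exists_op f k n
      refine hbase y hy d' hd' ?_ (hdiag n d' hd' hd'φ)
      rw [← h.L_mul f hy hd, ← h.L_mul f hd' hy]
      apply h.L_eq f
      rw [h.kq_mul hy hd, h.kq_mul hd' hy, map_mul, map_mul, e1, hdφ, hd'φ, hk, map_list_prod, map_list_prod,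
        List.map_map, List.map_map, show ⇑φ ∘ k = gen from funext hk]
      exact hn
    · intro y hy e1 t ht
      have hyJ : y ∈ J := h.mem_Jq.1 (show q ⟨y, h.K_ca hy⟩ ∈ Jq by
        rw [show q ⟨y, h.K_ca hy⟩ = (g : Q) from congrArg Subtype.val e1]; exact hg)
      rcases h.conj_cases hyJ (hW (hTW t ht)) with e2 | e2 <;> rw [e2]
      · exact ht
      · exact hzT t ht
  exact hTZ _ (hmoves x hx (hall x hx) e he) hc

/-- An involution of `K` centralises an element of `W` of square `z`. -/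
theorem W_root {x : G} (hx : x ∈ K) (h2 : x * x = 1) :
    ∃ u ∈ h.Ws f k, u * u = z ∧ u * x = x * u := by
  classical
  by_contra hcon
  push Not at hcon
  have hsys := h.sys f k hk hops hno
  set P' := CfsgLib.Recognition.USixTwoOuter.Plane.perp (ExtraspecialOut.Q f) (plane h.hyp f k)
  -- at least sixteen fixed vectors
  obtain ⟨s, hs, hs2⟩ : ∃ s, ∃ hs : s ∈ K, h.L f (mul_mem hs hs) = h.L f hx := by
    have hp : φ (h.kq hx) ∈ K40 := h.hyp.range ▸ ⟨_, rfl⟩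
    obtain ⟨g, hg, hgg⟩ := involution_square hp (by
      rw [← map_mul, ← h.kq_mul hx hx,
        show h.kq (mul_mem hx hx) = 1 from Subtype.ext (by
          show q ⟨x * x, _⟩ = 1
          rw [← map_one q]; exact congrArg q (Subtype.ext h2)), map_one])
    obtain ⟨g', rfl⟩ : ∃ g', φ g' = g := MonoidHom.mem_range.1 (h.hyp.range ▸ hg)
    obtain ⟨s, hs, rfl⟩ := h.exists_L g'
    exact ⟨s, hs, h.L_eq f _ _ (by rw [h.kq_mul hs hs, map_mul, hgg])⟩
  let sh : ↥P' →+ ↥P' :=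
    { toFun := fun v => ⟨h.L f hs v, hsys.presP (h.L_GC f k hk hops hno hs) v.2⟩
      map_zero' := Subtype.ext (map_zero (h.L f hs))
      map_add' := fun u v => Subtype.ext (map_add (h.L f hs) _ _) }
  have hx2 : h.L f hx * h.L f hx = 1 := by
    rw [← h.L_mul f hx hx, h.L_eq_one f, h2]; exact one_mem _
  have h16 := square_fix (fun v : ↥P' => Subtype.ext (ZModModule.add_self (v : V))) hsys.cardP sh fun v => by
    apply Subtype.ext
    show h.L f hs (h.L f hs (h.L f hs (h.L f hs (v : V)))) = v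
    have : h.L f (mul_mem hs hs) * h.L f (mul_mem hs hs) = 1 := by rw [hs2, hx2]
    rw [h.L_mul f hs hs] at this
    exact DFunLike.congr_fun this (v : V)
  let Fk : Set V := {v | v ∈ P' ∧ h.L f hx v = v}
  have hFk : 16 ≤ Fk.ncard := by
    refine h16.trans ?_
    rw [← Nat.card_coe_set_eq]
    refine Nat.card_le_card_of_injective (fun v => (⟨(v.1 : V), v.1.2, ?_⟩ : ↥Fk)) fun u v e => ?_
    · rw [← hs2, h.L_mul f hs hs]
      exact congrArg (fun p : ↥P' => (p : V)) v.2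
    · exact Subtype.ext (Subtype.ext (congrArg (fun p : ↥Fk => (p : V)) e))
  -- those with a lift commuting with `x`
  let T : AddSubgroup V :=
    { carrier := {v | ∃ u, ∃ hu : u ∈ J, h.co f hu = v ∧ v ∈ P' ∧ u * x = x * u}
      zero_mem' := ⟨1, one_mem _, h.co_one f, zero_mem _, by rw [one_mul, mul_one]⟩
      add_mem' := by
        rintro _ _ ⟨u, hu, rfl, hu', hux⟩ ⟨w, hw, rfl, hw', hwx⟩
        exact ⟨u * w, mul_mem hu hw, h.co_mul f hu hw, add_mem hu' hw',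
          by rw [mul_assoc, hwx, ← mul_assoc, hux, mul_assoc]⟩
      neg_mem' := by
        rintro v hv
        rwa [ZModModule.neg_eq_self] }
  have hTP : T ≤ P' := by rintro _ ⟨u, hu, rfl, hu', -⟩; exact hu'
  have hTQ : ∀ v ∈ T, ExtraspecialOut.Q f v = 0 := by
    rintro _ ⟨u, hu, rfl, hu', hux⟩
    exact (h.co_sq f hu).2 ((h.sq u hu).resolve_right fun e => hcon u ⟨hu, hu'⟩ e hux)
  have hT := no_singular_eight hsys hTP hTQ
  have hlift : ∀ v ∈ Fk, v ∈ T ∨ ∃ u, ∃ hu : u ∈ J, h.co f hu = v ∧ x * u * x⁻¹ * u⁻¹ = z := by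
    rintro v ⟨hv, hvx⟩
    obtain ⟨u, hu, rfl⟩ := h.co_surj f v
    have hc : InZ z a (x * u * x⁻¹ * u⁻¹) := (h.co_eq_zero f (mul_mem (h.norm x (h.K_z x hx) u hu) (inv_mem hu))).1 (by
      rw [h.co_mul f (h.norm x (h.K_z x hx) u hu) (inv_mem hu), h.co_inv f hu, ← h.L_act f hx hu, hvx,
        ZModModule.add_self])
    rcases h.no_a f k hk hops hno hx ⟨hu, hv⟩ hc with e | e
    · exact Or.inl ⟨u, hu, rfl, hv, (mul_inv_eq_iff_eq_mul.1 (mul_inv_eq_one.1 e)).symm⟩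
    · exact Or.inr ⟨u, hu, rfl, e⟩
  by_cases hall : Fk ⊆ (T : Set V)
  · have := Set.ncard_le_ncard hall (Set.toFinite _)
    have e : (T : Set V).ncard = Nat.card T := (Nat.card_coe_set_eq _).symm
    omega
  obtain ⟨v₀, hv₀, hv₀T⟩ := Set.not_subset.1 hall
  obtain ⟨u₀, hu₀, hu₀v, hu₀z⟩ := (hlift v₀ hv₀).resolve_left hv₀T
  have hsub : Fk ⊆ (T : Set V) ∪ (fun t => t + v₀) '' (T : Set V) := by
    intro v hv
    rcases hlift v hv with ht | ⟨u, hu, huv, huz⟩
    · exact Or.inl ht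
    refine Or.inr ⟨v + v₀, ⟨u * u₀, mul_mem hu hu₀, by rw [h.co_mul f hu hu₀, huv, hu₀v],
      add_mem hv.1 hv₀.1, ?_⟩, by simp only [add_assoc, ZModModule.add_self, add_zero]⟩
    have e1 : x * u = z * u * x := by rw [← huz]; group
    have e2 : x * u₀ = z * u₀ * x := by rw [← hu₀z]; group
    symm
    calc x * (u * u₀) = z * u * (x * u₀) := by rw [← mul_assoc, e1, mul_assoc]
      _ = z * (u * z) * u₀ * x := by rw [e2]; group
      _ = u * u₀ * x := by rw [h.J_z u hu, ← mul_assoc z z, h.zz, one_mul]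
  have h1 := (Set.ncard_le_ncard hsub (Set.toFinite _)).trans (Set.ncard_union_le _ _)
  have h2' := Set.ncard_image_le (f := fun t => t + v₀) (Set.toFinite (T : Set V))
  have e : (T : Set V).ncard = Nat.card T := (Nat.card_coe_set_eq _).symm
  omega

end Quot

end CfsgLib.Recognition.USixCentral.Plane
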