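import Cfsg.Agent.Lib.Recognition.USixCentral.Plane.Aut40Data
import Cfsg.Agent.Lib.Recognition.USixTwoOuter.CoreAut
import Cfsg.Agent.Lib.Recognition.USixTwoOuter.Dichotomy

/-!
# The automorphism group of `PSp₄(3)` has no central involution over a quaternion group
-/

set_option autoImplicit false
set_option maxRecDepth 100000
set_option linter.unusedSectionVars false
set_option linter.style.haveILetI false

namespace CfsgLib.Recognition.USixCentral.Plane

open CfsgLib.Recognition.USixTwoOuter (P40 gc gc_mem K40)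

theorem sigP_sq : sigP * sigP = 1 := Equiv.ext sigF_sigF

theorem sigP_inv : sigP⁻¹ = sigP := inv_eq_of_mul_eq_one_right sigP_sq

/-- The group of forty points extended by the outer permutation. -/
def N40 : Subgroup P40 := Subgroup.closure (insert sigP (Set.range gc))

theorem K40_le : K40 ≤ N40 := (Subgroup.closure_le _).2 fun _ hx => Subgroup.subset_closure (Or.inr hx)

theorem sigP_mem : sigP ∈ N40 := Subgroup.subset_closure (Or.inl rfl)

theorem sigP_norm {k : P40} (hk : k ∈ K40) : sigP * k * sigP⁻¹ ∈ K40 := by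
  rw [sigP_inv]
  rw [K40] at hk
  induction hk using Subgroup.closure_induction with
  | mem x hx =>
    obtain ⟨v, rfl⟩ := hx
    rw [sigP_gc]; exact mul_mem (gc_mem _) (gc_mem _)
  | one => rw [mul_one, sigP_sq]; exact one_mem _
  | mul x y _ _ hx hy =>
    have := mul_mem hx hy
    rwa [show sigP * x * sigP * (sigP * y * sigP) = sigP * x * (sigP * sigP) * y * sigP by group, sigP_sq, mul_one,
      mul_assoc sigP x y] at this
  | inv x _ hx =>
    have := inv_mem hx
    rwa [mul_inv_rev, mul_inv_rev, sigP_inv, ← mul_assoc] at this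

theorem N40_norm {n k : P40} (hn : n ∈ N40) (hk : k ∈ K40) : n * k * n⁻¹ ∈ K40 := by
  rw [N40] at hn
  revert k
  induction hn using Subgroup.closure_induction with
  | mem x hx =>
    intro k hk
    rcases hx with rfl | ⟨v, rfl⟩
    · exact sigP_norm hk
    · exact mul_mem (mul_mem (gc_mem v) hk) (inv_mem (gc_mem v))
  | one => intro k hk; simpa using hk
  | mul x y _ _ hx hy => intro k hk; simpa [mul_assoc] using hx (hy hk)
  | inv x _ hx =>
    intro k hk
    have hinj : Function.Injective fun u : ↥K40 => (⟨x * u * x⁻¹, hx u.2⟩ : ↥K40) := fun u v e =>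
      Subtype.ext (mul_left_cancel (mul_right_cancel (congrArg Subtype.val e)))
    obtain ⟨u, hu⟩ := (Finite.injective_iff_surjective.1 hinj) ⟨k, hk⟩
    rw [show k = x * u * x⁻¹ from (congrArg Subtype.val hu).symm]
    simp [mul_assoc]

/-- A labelled element of the Sylow subgroup. -/
def sylEl (i : ℕ) : P40 := ((bitsOf i).map fun k => if hk : k < 7 then sylGen ⟨k, hk⟩ else 1).prod

theorem bitsOf_lt {i k : ℕ} (hk : k ∈ bitsOf i) : k < 7 := List.mem_range.1 (List.mem_filter.1 hk).1

theorem sylEl_val (i : ℕ) (x : Fin 40) : (sylEl i x).val = sylAp i x.val := by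
  rw [sylEl, sylAp]
  suffices h : ∀ l : List ℕ, (∀ k ∈ l, k < 7) →
      ((l.map fun k => if hk : k < 7 then sylGen ⟨k, hk⟩ else 1).prod x).val =
        l.foldr (fun k y => apPack (sylPack.getD k 0) y) x.val from h _ fun k hk => bitsOf_lt hk
  intro l hl
  induction l with
  | nil => rfl
  | cons k l ih =>
    rw [List.map_cons, List.prod_cons, Equiv.Perm.mul_apply, List.foldr_cons,
      ← ih fun j hj => hl j (List.mem_cons_of_mem _ hj), dif_pos (hl k (List.mem_cons_self ..))]
    exact sylPack_ok ⟨k, hl k (List.mem_cons_self ..)⟩ _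

theorem sylStep_lt (i k : ℕ) : sylStep i k < 128 := Nat.mod_lt _ (by norm_num)

theorem sylMul_lt {i : ℕ} (hi : i < 128) (j : ℕ) : sylMul i j < 128 := by
  rw [sylMul]
  generalize bitsOf j = l
  induction l generalizing i with
  | nil => exact hi
  | cons k l ih => exact ih (sylStep_lt i k)

theorem sylEl_step {i : ℕ} (hi : i < 128) (k : Fin 7) : sylEl i * sylGen k = sylEl (sylStep i k.val) := by
  refine Equiv.ext fun x => Fin.ext ?_
  rw [Equiv.Perm.mul_apply, sylEl_val, sylEl_val, sylPack_ok k x]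
  exact beq_iff_eq.1 (List.all_eq_true.1 (List.all_eq_true.1 (List.all_eq_true.1 syl_step_ok i (List.mem_range.2 hi))
    k.val (List.mem_range.2 k.2)) x.val (List.mem_range.2 x.2))

theorem sylEl_mul {i : ℕ} (hi : i < 128) (j : ℕ) : sylEl i * sylEl j = sylEl (sylMul i j) := by
  rw [sylMul, show sylEl j = ((bitsOf j).map fun k => if hk : k < 7 then sylGen ⟨k, hk⟩ else 1).prod from rfl]
  have hl : ∀ k ∈ bitsOf j, k < 7 := fun k hk => bitsOf_lt hk
  revert hl
  generalize bitsOf j = l
  intro hl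
  induction l generalizing i with
  | nil => rw [List.map_nil, List.prod_nil, mul_one]; rfl
  | cons k l ih =>
    rw [List.map_cons, List.prod_cons, ← mul_assoc, dif_pos (hl k (List.mem_cons_self ..)), sylEl_step hi,
      ih (sylStep_lt _ _) fun m hm => hl m (List.mem_cons_of_mem _ hm)]
    rfl

theorem sylEl_inj {i j : ℕ} (hi : i < 128) (hj : j < 128) (e : sylEl i = sylEl j) : i = j := by
  have h := List.all_eq_true.1 (List.all_eq_true.1 syl_inj_ok i (List.mem_range.2 hi)) j (List.mem_range.2 hj)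
  rcases Bool.or_eq_true_iff.1 h with h' | h'
  · exact beq_iff_eq.1 h'
  · obtain ⟨x, hx, hne⟩ := List.any_eq_true.1 h'
    refine absurd ?_ (bne_iff_ne.1 hne)
    have := congrArg (fun p : P40 => (p ⟨x, List.mem_range.1 hx⟩).val) e
    simp only [sylEl_val] at this
    exact this

theorem sylEl_zero : sylEl 0 = 1 := rfl

/-- The Sylow subgroup. -/
def sylSub : Subgroup P40 where
  carrier := {g | ∃ i < 128, sylEl i = g}
  one_mem' := ⟨0, by norm_num, sylEl_zero⟩
  mul_mem' := by
    rintro _ _ ⟨i, hi, rfl⟩ ⟨j, hj, rfl⟩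
    exact ⟨sylMul i j, sylMul_lt hi j, (sylEl_mul hi j).symm⟩
  inv_mem' := by
    rintro _ ⟨i, hi, rfl⟩
    have hinj : Function.Injective fun j : Fin 128 => (⟨sylMul i j.val, sylMul_lt hi _⟩ : Fin 128) := fun j j' e => by
      have e1 : sylEl (sylMul i j.val) = sylEl (sylMul i j'.val) :=
        congrArg (fun t : Fin 128 => sylEl t.val) e
      rw [← sylEl_mul hi, ← sylEl_mul hi] at e1
      exact Fin.ext (sylEl_inj j.2 j'.2 (mul_left_cancel e1))
    obtain ⟨j, hj⟩ := (Finite.injective_iff_surjective.1 hinj) ⟨0, by norm_num⟩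
    refine ⟨j.val, j.2, (inv_eq_of_mul_eq_one_right ?_).symm⟩
    rw [sylEl_mul hi, show sylMul i j.val = 0 from congrArg Fin.val hj, sylEl_zero]

theorem sylSub_le : sylSub ≤ N40 := by
  rintro _ ⟨i, -, rfl⟩
  refine list_prod_mem fun g hg => ?_
  obtain ⟨k, hk, rfl⟩ := List.mem_map.1 hg
  rw [dif_pos (bitsOf_lt hk), sylGen]
  refine mul_mem ?_ (list_prod_mem fun y hy => ?_)
  · split
    · exact sigP_mem
    · exact one_mem _
  · obtain ⟨v, -, rfl⟩ := List.mem_map.1 hy
    exact K40_le (gc_mem v)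

theorem sylSub_card : Nat.card sylSub = 128 := by
  rw [← Nat.card_fin 128]
  refine (Nat.card_congr (Equiv.ofBijective (fun i : Fin 128 => (⟨sylEl i.val, i.val, i.2, rfl⟩ : ↥sylSub))
    ⟨fun i j e => Fin.ext (sylEl_inj i.2 j.2 (congrArg Subtype.val e)), ?_⟩)).symm
  rintro ⟨_, i, hi, rfl⟩
  exact ⟨⟨i, hi⟩, rfl⟩

theorem card_N40_and_iso {F : Type*} [Field F] [Fintype F] (hF : Fintype.card F = 3) :
    Nat.card N40 = 51840 ∧ Nonempty (MulAut (Cfsg.PSp 2 F) ≃* N40) := by
  classical
  obtain ⟨j⟩ := CfsgLib.KGroups.PSpFourThree.exists_iso_forty hF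
  have hA : Nat.card (MulAut ↥K40) = 51840 := by
    rw [← Nat.card_congr (MulAut.congr j).toEquiv, (CfsgLib.Recognition.USixTwoOuter.card_aut_psp_three hF).2]
  haveI : Finite (MulAut ↥K40) := Nat.finite_of_card_ne_zero (by rw [hA]; norm_num)
  let cj : ↥N40 →* MulAut ↥K40 :=
    { toFun := fun n =>
        { toFun := fun k => ⟨n * k * (n : P40)⁻¹, N40_norm n.2 k.2⟩
          invFun := fun k => ⟨(n : P40)⁻¹ * k * n, by
            have := N40_norm (inv_mem n.2) k.2
            rwa [inv_inv] at this⟩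
          left_inv := fun k => Subtype.ext (by simp [mul_assoc])
          right_inv := fun k => Subtype.ext (by simp [mul_assoc])
          map_mul' := fun k l => Subtype.ext (by simp [mul_assoc]) }
      map_one' := MulEquiv.ext fun k => Subtype.ext (by simp)
      map_mul' := fun m n => MulEquiv.ext fun k => Subtype.ext (by simp [mul_assoc]) }
  have hinj : Function.Injective cj := by
    refine (injective_iff_map_eq_one cj).2 fun n hn => Subtype.ext (CfsgLib.Recognition.USixTwoOuter.eq_one_of_comm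
      fun v => ?_)
    have h1 : (n : P40) * gc v * (n : P40)⁻¹ = gc v :=
      congrArg (fun φ : MulAut ↥K40 => ((φ ⟨gc v, gc_mem v⟩ : ↥K40) : P40)) hn
    exact mul_inv_eq_iff_eq_mul.1 h1
  have hle : Nat.card N40 ≤ 51840 := hA ▸ Nat.card_le_card_of_injective cj hinj
  have hK : Nat.card K40 = 25920 := CfsgLib.KGroups.PSpFourThree.card_forty
  obtain ⟨u, hu⟩ := Subgroup.card_dvd_of_le K40_le
  have h128 : 128 ∣ Nat.card N40 := sylSub_card ▸ Subgroup.card_dvd_of_le sylSub_le
  have hcard : Nat.card N40 = 51840 := by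
    rw [hK] at hu
    have hpos : 0 < Nat.card N40 := Nat.card_pos
    have hu2 : u ≤ 2 := by omega
    interval_cases u <;> omega
  refine ⟨hcard, ⟨(MulAut.congr j).trans (MulEquiv.ofBijective cj ?_).symm⟩⟩
  exact (Nat.bijective_iff_injective_and_card cj).2 ⟨hinj, hcard.trans hA.symm⟩

/-- The extended group has no quaternion group with an independent central involution. -/
theorem N40_no_q8 (hcard : Nat.card N40 = 51840) (c d t : ↥N40) (hcd : c * c = d * d) (hconj : d * c * d⁻¹ = c⁻¹)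
    (hc : c * c ≠ 1) (hc4 : c * c * (c * c) = 1) (ht : t * t = 1) (ht1 : t ≠ 1) (hct : c * c * t ≠ 1)
    (htc : t * c = c * t) (htd : t * d = d * t) : False := by
  classical
  haveI : Fact (Nat.Prime 2) := ⟨Nat.prime_two⟩
  have hz2 : ∀ x : ↥N40, x * x * (x * x) = 1 → IsPGroup 2 (Subgroup.zpowers x) := fun x hx => by
    have hd : orderOf x ∣ 2 ^ 2 := orderOf_dvd_of_pow_eq_one (by
      rw [show 2 ^ 2 = 2 * 2 from rfl, pow_mul, pow_two, pow_two, hx])
    obtain ⟨n, -, hn⟩ := (Nat.dvd_prime_pow Nat.prime_two).1 hd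
    exact IsPGroup.of_card (n := n) (by rw [Nat.card_zpowers, hn])
  have hnorm : ∀ {H : Subgroup ↥N40} {x : ↥N40}, (∀ h ∈ H, x * h * x⁻¹ ∈ H) →
      Subgroup.zpowers x ≤ Subgroup.normalizer (H : Set ↥N40) := fun hx =>
    Subgroup.zpowers_le.2 (Subgroup.mem_normalizer_fintype hx)
  have h1 : IsPGroup 2 (Subgroup.zpowers d ⊔ Subgroup.zpowers c : Subgroup ↥N40) :=
    IsPGroup.to_sup_of_normal_right' (hz2 d (hcd ▸ hc4)) (hz2 c hc4) (hnorm fun x hx => by
      obtain ⟨n, rfl⟩ := Subgroup.mem_zpowers_iff.1 hx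
      rw [← conj_zpow, hconj]
      exact zpow_mem (inv_mem (Subgroup.mem_zpowers c)) n)
  set P1 := (Subgroup.zpowers d ⊔ Subgroup.zpowers c : Subgroup ↥N40) with hP1
  have htP : P1 ≤ Subgroup.centralizer ({t} : Set ↥N40) := sup_le
    (Subgroup.zpowers_le.2 (Subgroup.mem_centralizer_singleton_iff.2 htd.symm))
    (Subgroup.zpowers_le.2 (Subgroup.mem_centralizer_singleton_iff.2 htc.symm))
  have h2 : IsPGroup 2 (Subgroup.zpowers t ⊔ P1 : Subgroup ↥N40) :=
    IsPGroup.to_sup_of_normal_right' (hz2 t (by rw [ht, mul_one])) h1 (hnorm fun x hx => by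
      rw [← Subgroup.mem_centralizer_singleton_iff.1 (htP hx), mul_inv_cancel_right]
      exact hx)
  have hSp : IsPGroup 2 (sylSub.subgroupOf N40) := IsPGroup.of_card (n := 7) (by
    rw [Nat.card_congr (Subgroup.subgroupOfEquivOfLe sylSub_le).toEquiv, sylSub_card]; rfl)
  have hidx : ¬ 2 ∣ (sylSub.subgroupOf N40).index := by
    have h3 := (sylSub.subgroupOf N40).card_mul_index
    rw [Nat.card_congr (Subgroup.subgroupOfEquivOfLe sylSub_le).toEquiv, sylSub_card, hcard] at h3
    omega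
  let S : Sylow 2 ↥N40 := hSp.toSylow hidx
  obtain ⟨R, hR⟩ := h2.exists_le_sylow
  obtain ⟨g, hg⟩ := MulAction.exists_smul_eq ↥N40 R S
  have hmem : ∀ x, x ∈ (Subgroup.zpowers t ⊔ P1 : Subgroup ↥N40) →
      ∃ i < 128, sylEl i = ((g * x * g⁻¹ : ↥N40) : P40) := fun x hx => by
    have : MulAut.conj g x ∈ (S : Subgroup ↥N40) := by
      rw [← hg]
      exact ⟨_, hR hx, rfl⟩
    exact Subgroup.mem_subgroupOf.1 this
  obtain ⟨ic, hic, ec⟩ := hmem c (Subgroup.mem_sup_right (Subgroup.mem_sup_right (Subgroup.mem_zpowers c)))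
  obtain ⟨id', hid, ed⟩ := hmem d (Subgroup.mem_sup_right (Subgroup.mem_sup_left (Subgroup.mem_zpowers d)))
  obtain ⟨it, hit, et⟩ := hmem t (Subgroup.mem_sup_left (Subgroup.mem_zpowers t))
  have tr : ∀ {i j : ℕ} {x y : ↥N40}, i < 128 → sylEl i = ((g * x * g⁻¹ : ↥N40) : P40) →
      sylEl j = ((g * y * g⁻¹ : ↥N40) : P40) → sylEl (sylMul i j) = ((g * (x * y) * g⁻¹ : ↥N40) : P40) := by
    intro i j x y hi ei ej
    rw [← sylEl_mul hi, ei, ej, ← Subgroup.coe_mul]
    exact congrArg Subtype.val (by group)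
  have key : ∀ {i j : ℕ} {x y : ↥N40}, i < 128 → j < 128 → sylEl i = ((g * x * g⁻¹ : ↥N40) : P40) →
      sylEl j = ((g * y * g⁻¹ : ↥N40) : P40) → (i = j ↔ x = y) := by
    intro i j x y hi hj ei ej
    constructor
    · rintro rfl
      exact mul_left_cancel (mul_right_cancel (Subtype.ext (ei.symm.trans ej)))
    · rintro rfl
      exact sylEl_inj hi hj (ei.trans ej.symm)
  have e0 : sylEl 0 = ((g * 1 * g⁻¹ : ↥N40) : P40) := by rw [mul_one, mul_inv_cancel, sylEl_zero]; rfl
  have e2 := tr hic ec ec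
  have e4 := tr (sylMul_lt hic ic) e2 e2
  have ecd := tr hic ec ed
  have ecdc := tr (sylMul_lt hic id') ecd ec
  have hcdc : c * d * c = d := by
    rw [mul_inv_eq_iff_eq_mul] at hconj
    rw [mul_assoc, hconj, mul_inv_cancel_left]
  have f1 : sylMul ic ic ≠ 0 := fun e => hc ((key (sylMul_lt hic _) (by norm_num) e2 e0).1 e)
  have f2 : sylMul (sylMul ic ic) (sylMul ic ic) = 0 :=
    (key (sylMul_lt (sylMul_lt hic _) _) (by norm_num) e4 e0).2 hc4
  have f3 : sylMul id' id' = sylMul ic ic := (key (sylMul_lt hid _) (sylMul_lt hic _) (tr hid ed ed) e2).2 hcd.symm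
  have f4 : sylMul (sylMul ic id') ic = id' := (key (sylMul_lt (sylMul_lt hic _) _) hid ecdc ed).2 hcdc
  have f5 : it ≠ 0 := fun e => ht1 ((key hit (by norm_num) et e0).1 e)
  have f6 : it ≠ sylMul ic ic := fun e => hct (by rw [← (key hit (sylMul_lt hic _) et e2).1 e, ht])
  have f7 : sylMul it it = 0 := (key (sylMul_lt hit _) (by norm_num) (tr hit et et) e0).2 ht
  have f8 : sylMul it ic = sylMul ic it := (key (sylMul_lt hit _) (sylMul_lt hic _) (tr hit et ec) (tr hic ec et)).2 htc
  have f9 : sylMul it id' = sylMul id' it :=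
    (key (sylMul_lt hit _) (sylMul_lt hid _) (tr hit et ed) (tr hid ed et)).2 htd
  have h := List.all_eq_true.1 syl_q8_ok ic (List.mem_range.2 hic)
  simp only [Bool.or_eq_true, beq_iff_eq, bne_iff_ne, List.all_eq_true, List.mem_range] at h
  rcases h with (h | h) | h
  · exact f1 h
  · exact h f2
  · rcases h id' hid with (h' | h') | h'
    · exact h' f3
    · exact h' f4
    · rcases h' it hit with (((h'' | h'') | h'') | h'') | h''
      · exact f5 h''
      · exact f6 h''
      · exact h'' f7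
      · exact h'' f8
      · exact h'' f9

/-- The automorphism group of `PSp₄(3)` has no quaternion group with an independent central involution. -/
theorem aut_no_q8 {F : Type*} [Field F] [Fintype F] (hF : Fintype.card F = 3) (c d t : MulAut (Cfsg.PSp 2 F))
    (hcd : c * c = d * d) (hconj : d * c * d⁻¹ = c⁻¹) (hc : c * c ≠ 1) (hc4 : c * c * (c * c) = 1) (ht : t * t = 1)
    (ht1 : t ≠ 1) (hct : c * c * t ≠ 1) (htc : t * c = c * t) (htd : t * d = d * t) : False := by
  obtain ⟨hcard, ⟨j⟩⟩ := card_N40_and_iso hF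
  refine N40_no_q8 hcard (j c) (j d) (j t) ?_ ?_ ?_ ?_ ?_ ?_ ?_ ?_ ?_
  · rw [← map_mul, ← map_mul, hcd]
  · rw [← map_mul, ← map_inv, ← map_mul, ← map_inv, hconj]
  · rwa [← map_mul, Ne, j.map_eq_one_iff]
  · rw [← map_mul, ← map_mul, hc4, map_one]
  · rw [← map_mul, ht, map_one]
  · rwa [Ne, j.map_eq_one_iff]
  · rwa [← map_mul, ← map_mul, Ne, j.map_eq_one_iff]
  · rw [← map_mul, ← map_mul, htc]
  · rw [← map_mul, ← map_mul, htd]

end CfsgLib.Recognition.USixCentral.Plane
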