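import Cfsg.Agent.Lib.Recognition.USixCentral.Pullback
import Cfsg.Agent.Lib.Recognition.USixCentral.Transfer

/-!
# The branch with an invariant plane: first facts

`J = X W` with `X/Z` the plane and `W` its centraliser in `J`, `Z = {1, z, a, z * a}`; `K` is the subgroup of index
at most two over the simple group and `P` is generated by its elements of odd order.
-/

set_option autoImplicit false
set_option linter.unusedSectionVars false
set_option linter.style.haveILetI false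

namespace CfsgLib.Recognition.USixCentral.Plane

open CfsgLib.Recognition.USixCentral (SplitAt eq_one_of_two_odd odd_order_of_mem)

variable {G : Type*} [Group G] [Finite G]

/-- `{1, z, a, z * a}`. -/
def InZ (z a : G) (c : G) : Prop := c = 1 ∨ c = z ∨ c = a ∨ c = z * a

/-- The configuration. -/
structure Data (z a : G) (J X W K P : Subgroup G) : Prop where
  ord_z : orderOf z = 2
  ord_a : orderOf a = 2
  ne : a ≠ z
  z_mem : z ∈ X
  a_mem : a ∈ X
  card_J : Nat.card J = 1024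
  J_z : ∀ j ∈ J, j * z = z * j
  J_a : ∀ j ∈ J, j * a = a * j
  comm : ∀ i ∈ J, ∀ j ∈ J, i * j = j * i ∨ i * j = z * (j * i)
  sq : ∀ j ∈ J, j * j = 1 ∨ j * j = z
  centre : ∀ j ∈ J, (∀ i ∈ J, j * i = i * j) → InZ z a j
  cent_le : ∀ c, (∀ j ∈ J, c * j = j * c) → c ∈ J
  norm : ∀ c, c * z = z * c → ∀ j ∈ J, c * j * c⁻¹ ∈ J
  X_le : X ≤ J
  W_iff : ∀ j, j ∈ W ↔ j ∈ J ∧ ∀ x ∈ X, j * x = x * j
  span : ∀ j ∈ J, ∃ x ∈ X, ∃ e ∈ W, j = x * e
  X_iff : ∀ j, j ∈ X ↔ j ∈ J ∧ ∀ k ∈ K, InZ z a (k * j * k⁻¹ * j⁻¹)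
  X_card : Nat.card X = 16
  X_anti : ∀ x ∈ X, ∀ y ∈ X, ¬ InZ z a x → ¬ InZ z a y → ¬ InZ z a (x * y) → y * x = z * (x * y)
  W_root : ∀ k ∈ K, k * k = 1 → ∃ u ∈ W, u * u = z ∧ u * k = k * u
  K_z : ∀ k ∈ K, k * z = z * k
  K_a : ∀ k ∈ K, k * a = a * k
  J_K : J ≤ K
  K_norm : ∀ c, c * z = z * c → ∀ k ∈ K, c * k * c⁻¹ ∈ K
  K_par : ∀ c d, c * z = z * c → d * z = z * d → c ∉ K → d ∉ K → c * d ∈ K
  P_def : P = Subgroup.closure {g : G | g ∈ K ∧ Odd (orderOf g)}
  K_gen : ∀ k ∈ K, ∃ p ∈ P, p⁻¹ * k ∈ J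
  twoLe : ∀ R : Subgroup G, IsPGroup 2 R → R ≤ Subgroup.centralizer ({z} : Set G) →
    (∀ k ∈ K, ∀ r ∈ R, k * r * k⁻¹ ∈ R) → R ≤ J
  five : ∀ e ∈ W, ∃ d ∈ K, d ∉ J ∧ d ^ 5 = 1 ∧ InZ z a (d * e * d⁻¹ * e⁻¹)
  faith : ∀ k ∈ K, (∀ e ∈ W, InZ z a (k * e * k⁻¹ * e⁻¹)) → k ∈ J
  W_gen : ∀ e ∈ W, ∃ p ∈ P, InZ z a (p⁻¹ * e)
  z_P : z ∈ P
  W_four : ∃ e ∈ W, e ∈ P ∧ e * e = z
  noTen : ∀ k ∈ K, k ∉ J → k * k ∈ J → ∀ d ∈ K, d ∉ J → d ^ 5 = 1 → d * k * d⁻¹ * k⁻¹ ∉ J
  noQ8 : ∀ c d t : G, c * z = z * c → d * z = z * d → t * z = z * t → c * c = d * d → d * c * d⁻¹ = c⁻¹ →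
    c * c ∉ J → c * c * (c * c) = 1 → t * t = 1 → t ∉ J → c * c * t ∉ J → t * c = c * t → t * d = d * t → False
  splitA : SplitAt z (Subgroup.centralizer ({a} : Set G))
  splitB : SplitAt z (Subgroup.centralizer ({z * a} : Set G))

theorem odd_pow_cases {c : G} (h2 : c * c = 1) {n : ℕ} (hn : Odd n) : c ^ n = c := by
  obtain ⟨m, rfl⟩ := hn
  rw [pow_add, pow_mul, pow_two, h2, one_pow, one_mul, pow_one]

/-- The iterates of a translation by a fixed involution. -/
theorem conj_pow_translate {p x c : G} (h : p * x * p⁻¹ = x * c) (hc : p * c * p⁻¹ = c) (n : ℕ) :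
    p ^ n * x * (p ^ n)⁻¹ = x * c ^ n := by
  induction n with
  | zero => simp
  | succ n ih =>
    rw [pow_succ', mul_inv_rev, show p * p ^ n * x * ((p ^ n)⁻¹ * p⁻¹) = p * (p ^ n * x * (p ^ n)⁻¹) * p⁻¹ by group,
      ih, show p * (x * c ^ n) * p⁻¹ = p * x * p⁻¹ * (p * c ^ n * p⁻¹) by group, h, ← conj_pow, hc, pow_succ',
      mul_assoc]

namespace Data

variable {z a : G} {J X W K P : Subgroup G} (h : Data z a J X W K P)
include h

theorem zz : z * z = 1 := by rw [← pow_two, ← h.ord_z, pow_orderOf_eq_one]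

theorem aa : a * a = 1 := by rw [← pow_two, ← h.ord_a, pow_orderOf_eq_one]

theorem z_ne : z ≠ 1 := fun e => by
  have := h.ord_z
  rw [e, orderOf_one] at this
  omega

theorem a_ne : a ≠ 1 := fun e => by
  have := h.ord_a
  rw [e, orderOf_one] at this
  omega

theorem za : a * z = z * a := h.J_z a (h.X_le h.a_mem)

theorem za_sq : z * a * (z * a) = 1 := by
  rw [mul_assoc, ← mul_assoc a z, h.za, mul_assoc z a a, h.aa, mul_one, h.zz]

theorem z_za : z * (z * a) = a := by rw [← mul_assoc, h.zz, one_mul]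

theorem za_ne : z * a ≠ 1 := fun e => h.ne (by rw [← h.z_za, e, mul_one])

theorem zJ : z ∈ J := h.X_le h.z_mem

theorem aJ : a ∈ J := h.X_le h.a_mem

theorem J_cent : J ≤ Subgroup.centralizer ({z} : Set G) := fun j hj =>
  Subgroup.mem_centralizer_singleton_iff.2 (h.J_z j hj)

theorem inZ_mem {c : G} (hc : InZ z a c) : c ∈ X := by
  rcases hc with rfl | rfl | rfl | rfl
  · exact one_mem _
  · exact h.z_mem
  · exact h.a_mem
  · exact mul_mem h.z_mem h.a_mem

theorem inZ_J {c : G} (hc : InZ z a c) : c ∈ J := h.X_le (h.inZ_mem hc)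

theorem inZ_sq {c : G} (hc : InZ z a c) : c * c = 1 := by
  rcases hc with rfl | rfl | rfl | rfl
  · exact mul_one _
  · exact h.zz
  · exact h.aa
  · exact h.za_sq

theorem inZ_comm {c : G} (hc : InZ z a c) {g : G} (gz : g * z = z * g) (ga : g * a = a * g) : g * c = c * g := by
  rcases hc with rfl | rfl | rfl | rfl
  · rw [mul_one, one_mul]
  · exact gz
  · exact ga
  · rw [← mul_assoc, gz, mul_assoc, ga, ← mul_assoc]

theorem inZ_J_comm {c : G} (hc : InZ z a c) {j : G} (hj : j ∈ J) : j * c = c * j :=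
  h.inZ_comm hc (h.J_z j hj) (h.J_a j hj)

theorem inZ_mul {c d : G} (hc : InZ z a c) (hd : InZ z a d) : InZ z a (c * d) :=
  h.centre _ (mul_mem (h.inZ_J hc) (h.inZ_J hd)) fun i hi => by
    rw [mul_assoc, ← h.inZ_J_comm hd hi, ← mul_assoc, ← h.inZ_J_comm hc hi, mul_assoc]

theorem inZ_inv {c : G} (hc : InZ z a c) : InZ z a c⁻¹ := by
  rwa [inv_eq_of_mul_eq_one_right (h.inZ_sq hc)]

theorem W_le : W ≤ J := fun j hj => ((h.W_iff j).1 hj).1

theorem XW {x e : G} (hx : x ∈ X) (he : e ∈ W) : e * x = x * e := ((h.W_iff e).1 he).2 x hx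

theorem inZ_W {c : G} (hc : InZ z a c) : c ∈ W :=
  (h.W_iff c).2 ⟨h.inZ_J hc, fun x hx => (h.inZ_J_comm hc (h.X_le hx)).symm⟩

/-- The elements of `P` centralise `X`. -/
theorem P_cent {p : G} (hp : p ∈ P) : p ∈ K ∧ ∀ x ∈ X, p * x = x * p := by
  rw [h.P_def] at hp
  induction hp using Subgroup.closure_induction with
  | mem p hp =>
    refine ⟨hp.1, fun x hx => mul_inv_eq_iff_eq_mul.1 ?_⟩
    obtain ⟨hxJ, hxK⟩ := (h.X_iff x).1 hx
    set c := x⁻¹ * (p * x * p⁻¹) with hc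
    have hcZ : InZ z a c := by
      have h1 := hxK p hp.1
      have e : c = x⁻¹ * (p * x * p⁻¹ * x⁻¹) * x := by rw [hc]; group
      rw [e, mul_assoc, ← h.inZ_J_comm h1 hxJ, inv_mul_cancel_left]
      exact h1
    have e1 : p * x * p⁻¹ = x * c := by rw [hc, mul_inv_cancel_left]
    have e2 := conj_pow_translate e1 (mul_inv_eq_iff_eq_mul.2 (h.inZ_comm hcZ (h.K_z p hp.1) (h.K_a p hp.1)))
      (orderOf p)
    rw [pow_orderOf_eq_one, one_mul, inv_one, mul_one, odd_pow_cases (h.inZ_sq hcZ) hp.2] at e2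
    rw [e1, ← e2]
  | one => exact ⟨one_mem _, fun x _ => by rw [one_mul, mul_one]⟩
  | mul p q _ _ hp hq =>
    exact ⟨mul_mem hp.1 hq.1, fun x hx => by rw [mul_assoc, hq.2 x hx, ← mul_assoc, hp.2 x hx, mul_assoc]⟩
  | inv p _ hp =>
    exact ⟨inv_mem hp.1, fun x hx => (Commute.inv_left (hp.2 x hx : Commute p x)).eq⟩

theorem P_le : P ≤ K := fun _ hp => (h.P_cent hp).1

theorem P_J {p : G} (hp : p ∈ P) (hj : p ∈ J) : p ∈ W := (h.W_iff p).2 ⟨hj, (h.P_cent hp).2⟩

/-- An element of `K` is an element centralising `X` times an element of `X`. -/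
theorem K_split {k : G} (hk : k ∈ K) : ∃ p ∈ P, ∃ x ∈ X, ∃ e ∈ W, k = p * (x * e) := by
  obtain ⟨p, hp, hj⟩ := h.K_gen k hk
  obtain ⟨x, hx, e, he, hxe⟩ := h.span _ hj
  exact ⟨p, hp, x, hx, e, he, by rw [← hxe, mul_inv_cancel_left]⟩

/-- There is an element of `X` outside the centre. -/
theorem exists_X : ∃ x ∈ X, ¬ InZ z a x := by
  classical
  by_contra hc
  push Not at hc
  have h1 : (X : Set G).ncard ≤ ({1, z, a, z * a} : Set G).ncard :=
    Set.ncard_le_ncard (fun x hx => by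
      rcases hc x hx with e | e | e | e <;> simp [e]) (Set.toFinite _)
  have h2 : ({1, z, a, z * a} : Set G).ncard ≤ 4 := by
    refine (Set.ncard_insert_le _ _).trans ?_
    refine Nat.succ_le_succ ((Set.ncard_insert_le _ _).trans ?_)
    exact Nat.succ_le_succ ((Set.ncard_insert_le _ _).trans (by rw [Set.ncard_singleton]))
  rw [← Nat.card_coe_set_eq, show Nat.card ↥(X : Set G) = 16 from h.X_card] at h1
  omega

/-- Two elements of the plane that do not commute. -/
theorem exists_pair : ∃ x ∈ X, ∃ x' ∈ X, x' * x = z * (x * x') := by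
  obtain ⟨x, hx, hn⟩ := h.exists_X
  by_contra hc
  push Not at hc
  refine hn (h.centre x (h.X_le hx) fun i hi => ?_)
  obtain ⟨x', hx', e, he, rfl⟩ := h.span i hi
  have h1 : x' * x = x * x' := (h.comm x' (h.X_le hx') x (h.X_le hx)).resolve_right (hc x hx x' hx')
  rw [← mul_assoc, ← h1, mul_assoc, ← h.XW hx he, mul_assoc]

/-- An element of the plane with square `z`. -/
theorem exists_four : ∃ x ∈ X, x * x = z := by
  obtain ⟨x, hx, x', hx', e⟩ := h.exists_pair
  rcases h.sq x (h.X_le hx) with h1 | h1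
  · rcases h.sq x' (h.X_le hx') with h2 | h2
    · refine ⟨x * x', mul_mem hx hx', ?_⟩
      calc x * x' * (x * x') = x * (x' * x) * x' := by group
        _ = x * z * (x * (x' * x')) := by rw [e]; group
        _ = z := by rw [h2, mul_one, h.J_z x (h.X_le hx), mul_assoc, h1, mul_one]
    · exact ⟨x', hx', h2⟩
  · exact ⟨x, hx, h1⟩

/-- Two elements of `J` whose centralisers are nested. -/
theorem eq_of_cent {j i : G} (hj : j ∈ J) (hi : i ∈ J) (hsub : ∀ l ∈ J, l * j = j * l → l * i = i * l) :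
    InZ z a i ∨ InZ z a (j * i) := by
  by_cases hall : ∀ l ∈ J, l * i = i * l
  · exact Or.inl (h.centre i hi fun l hl => (hall l hl).symm)
  push Not at hall
  obtain ⟨l₀, hl₀, hne⟩ := hall
  have hne' : l₀ * j ≠ j * l₀ := fun e => hne (hsub l₀ hl₀ e)
  refine Or.inr (h.centre _ (mul_mem hj hi) fun l hl => ?_)
  by_cases hl' : l * j = j * l
  · rw [mul_assoc, ← hsub l hl hl', ← mul_assoc, ← hl', mul_assoc]
  have hlj := (h.comm l hl j hj).resolve_left hl'
  have hli : l * i = z * (i * l) := by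
    refine (h.comm l hl i hi).resolve_left fun e => ?_
    have hl0j := (h.comm l₀ hl₀ j hj).resolve_left hne'
    have h1 : l * l₀ * j = j * (l * l₀) := by
      rw [mul_assoc, hl0j, ← mul_assoc, h.J_z l hl, mul_assoc, ← mul_assoc l j, hlj, ← mul_assoc z,
        ← mul_assoc z z, h.zz, one_mul, mul_assoc]
    have h2 := hsub _ (mul_mem hl hl₀) h1
    rw [← mul_assoc i l, ← e, mul_assoc, mul_assoc] at h2
    exact hne (mul_left_cancel h2)
  symm
  calc l * (j * i) = z * (j * l) * i := by rw [← mul_assoc, hlj]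
    _ = z * j * (z * (i * l)) := by rw [← hli]; group
    _ = z * (j * z) * (i * l) := by group
    _ = z * z * j * (i * l) := by rw [h.J_z j hj]; group
    _ = j * i * l := by rw [h.zz, one_mul, mul_assoc]

/-- An element centralising the centraliser in `J` of an involution outside the centre lies in `J`. -/
theorem transvection {j : G} (hj : j ∈ J) (hj2 : j * j = 1) {c : G} (hc : c * z = z * c) (hca : c * a = a * c)
    (hfix : ∀ l ∈ J, l * j = j * l → l * c = c * l) : c ∈ J := by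
  have hdiff : ∀ u ∈ J, InZ z a (c * u * c⁻¹ * u⁻¹) := by
    intro u hu
    have hm : c * u * c⁻¹ * u⁻¹ ∈ J := mul_mem (h.norm c hc u hu) (inv_mem hu)
    have hfix' : ∀ l ∈ J, l * j = j * l → l * (c * u * c⁻¹ * u⁻¹) = c * u * c⁻¹ * u⁻¹ * l := by
      intro l hl hlj
      have hlc := hfix l hl hlj
      rcases h.comm l hl u hu with e | e
      · have e1 : l * (c * u * c⁻¹) = c * u * c⁻¹ * l := by
          calc l * (c * u * c⁻¹) = c * (l * u) * c⁻¹ := by rw [← mul_assoc, ← mul_assoc, hlc]; group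
            _ = c * u * (l * c⁻¹) := by rw [e]; group
            _ = _ := by rw [(Commute.inv_right (hlc : Commute l c)).eq]; group
        calc l * (c * u * c⁻¹ * u⁻¹) = c * u * c⁻¹ * (l * u⁻¹) := by rw [← mul_assoc, e1]; group
          _ = _ := by rw [(Commute.inv_right (e : Commute l u)).eq]; group
      · have e1 : l * (c * u * c⁻¹) = z * (c * u * c⁻¹ * l) := by
          calc l * (c * u * c⁻¹) = c * (l * u) * c⁻¹ := by rw [← mul_assoc, ← mul_assoc, hlc]; group
            _ = c * z * (u * (l * c⁻¹)) := by rw [e]; group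
            _ = _ := by rw [hc, (Commute.inv_right (hlc : Commute l c)).eq]; group
        have e2 : l * u⁻¹ = z⁻¹ * (u⁻¹ * l) := by
          rw [eq_inv_mul_iff_mul_eq]
          calc z * (l * u⁻¹) = u⁻¹ * (u * z) * (l * u⁻¹) := by group
            _ = u⁻¹ * (z * (u * l)) * u⁻¹ := by rw [h.J_z u hu]; group
            _ = u⁻¹ * l := by rw [← e]; group
        calc l * (c * u * c⁻¹ * u⁻¹) = z * (c * u * c⁻¹) * (l * u⁻¹) := by rw [← mul_assoc, e1]; group
          _ = z * (c * u * c⁻¹ * z⁻¹) * (u⁻¹ * l) := by rw [e2]; group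
          _ = _ := by
            rw [(Commute.inv_right (show Commute (c * u * c⁻¹) z from h.J_z _ (h.norm c hc u hu))).eq]; group
    rcases h.eq_of_cent hj hm hfix' with e | e
    · exact e
    · by_cases huj : u * j = j * u
      · rw [← hfix u hu huj, mul_inv_cancel_right, mul_inv_cancel]
        exact Or.inl rfl
      by_contra hnot
      have e0 := (h.comm u hu j hj).resolve_left huj
      set ζ := j * (c * u * c⁻¹ * u⁻¹) with hζ
      have e3 : c * u * c⁻¹ = j * ζ * u := by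
        rw [hζ, ← mul_assoc, hj2, one_mul, inv_mul_cancel_right]
      have e4 : c * u * c⁻¹ * (c * u * c⁻¹) = u * u := by
        rw [show c * u * c⁻¹ * (c * u * c⁻¹) = c * (u * u) * c⁻¹ by group]
        rcases h.sq u hu with e' | e' <;> rw [e']
        · group
        · rw [hc, mul_inv_cancel_right]
      have e5 : j * ζ * u * (j * ζ * u) = z * (u * u) := by
        calc j * ζ * u * (j * ζ * u) = j * ζ * (u * j) * ζ * u := by group
          _ = j * (ζ * z) * (j * (u * ζ)) * u := by rw [e0]; group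
          _ = j * (z * ζ) * (j * (ζ * u)) * u := by
              rw [← h.inZ_J_comm e h.zJ, h.inZ_J_comm e hu]
          _ = z * (j * (ζ * j)) * ζ * (u * u) := by
              rw [← mul_assoc j z, h.J_z j hj]; group
          _ = z * (j * j) * (ζ * ζ) * (u * u) := by rw [← h.inZ_J_comm e hj]; group
          _ = _ := by rw [hj2, h.inZ_sq e, mul_one, mul_one]
      rw [← e3, e4] at e5
      exact h.z_ne (mul_eq_right.1 e5.symm)
  haveI : Fact (Nat.Prime 2) := ⟨Nat.prime_two⟩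
  -- the elements acting trivially modulo the centre form a normalised subgroup
  let R : Subgroup G :=
    { carrier := {g | g * z = z * g ∧ g * a = a * g ∧ ∀ u ∈ J, InZ z a (g * u * g⁻¹ * u⁻¹)}
      one_mem' := ⟨by rw [one_mul, mul_one], by rw [one_mul, mul_one], fun u hu => Or.inl (by group)⟩
      mul_mem' := fun {g k} hg hk => by
        refine ⟨by rw [mul_assoc, hk.1, ← mul_assoc, hg.1, mul_assoc],
          by rw [mul_assoc, hk.2.1, ← mul_assoc, hg.2.1, mul_assoc], fun u hu => ?_⟩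
        have h2 := hk.2.2 u hu
        rw [show g * k * u * (g * k)⁻¹ * u⁻¹ = g * (k * u * k⁻¹ * u⁻¹) * g⁻¹ * (g * u * g⁻¹ * u⁻¹) by group,
          h.inZ_comm h2 hg.1 hg.2.1, mul_inv_cancel_right]
        exact h.inZ_mul h2 (hg.2.2 u hu)
      inv_mem' := fun {g} hg => by
        refine ⟨(Commute.inv_left hg.1).eq, (Commute.inv_left hg.2.1).eq, fun u hu => ?_⟩
        have h2 := h.inZ_inv (hg.2.2 _ (h.norm g⁻¹ (Commute.inv_left hg.1).eq u hu))
        rw [inv_inv, show (g * (g⁻¹ * u * g) * g⁻¹ * (g⁻¹ * u * g)⁻¹)⁻¹ = g⁻¹ * u * g * u⁻¹ by group] at h2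
        rwa [inv_inv] }
  have hR2 : IsPGroup 2 R := by
    intro g
    have hsq : (g : G) * g ∈ J := h.cent_le _ fun u hu => by
      have h1 := g.2.2.2 u hu
      set ζ := (g : G) * u * (g : G)⁻¹ * u⁻¹ with hζ
      have e1 : (g : G) * u * (g : G)⁻¹ = ζ * u := by rw [hζ, inv_mul_cancel_right]
      rw [← mul_inv_eq_iff_eq_mul, show (g : G) * g * u * ((g : G) * g)⁻¹ = g * (g * u * (g : G)⁻¹) * (g : G)⁻¹ by group,
        e1, show (g : G) * (ζ * u) * (g : G)⁻¹ = g * ζ * (g : G)⁻¹ * (g * u * (g : G)⁻¹) by group,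
        h.inZ_comm h1 g.2.1 g.2.2.1, mul_inv_cancel_right, e1, ← mul_assoc, h.inZ_sq h1, one_mul]
    obtain ⟨k, hk⟩ := (IsPGroup.of_card (p := 2) (n := 10) (show Nat.card J = 2 ^ 10 by rw [h.card_J]; rfl))
      ⟨_, hsq⟩
    refine ⟨k + 1, Subtype.ext ?_⟩
    have hk' : ((g : G) * g) ^ 2 ^ k = 1 := congrArg Subtype.val hk
    rw [SubmonoidClass.coe_pow, pow_succ', pow_mul, pow_two, hk']
    rfl
  refine h.twoLe R hR2 (fun g hg => Subgroup.mem_centralizer_singleton_iff.2 hg.1) ?_ ⟨hc, hca, hdiff⟩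
  intro k hk r hr
  have hkz := h.K_z k hk
  have hka := h.K_a k hk
  have hk' : k⁻¹ * z = z * k⁻¹ := (Commute.inv_left hkz).eq
  have hka' : k⁻¹ * a = a * k⁻¹ := (Commute.inv_left hka).eq
  refine ⟨?_, ?_, fun u hu => ?_⟩
  · calc k * r * k⁻¹ * z = k * (r * z) * k⁻¹ := by rw [mul_assoc, hk']; group
      _ = k * z * r * k⁻¹ := by rw [hr.1]; group
      _ = _ := by rw [hkz]; group
  · calc k * r * k⁻¹ * a = k * (r * a) * k⁻¹ := by rw [mul_assoc, hka']; group
      _ = k * a * r * k⁻¹ := by rw [hr.2.1]; group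
      _ = _ := by rw [hka]; group
  · have hm := h.norm k⁻¹ hk' u hu
    rw [inv_inv] at hm
    have h1 := hr.2.2 _ hm
    rw [show k * r * k⁻¹ * u * (k * r * k⁻¹)⁻¹ * u⁻¹ =
      k * (r * (k⁻¹ * u * k) * r⁻¹ * (k⁻¹ * u * k)⁻¹) * k⁻¹ by group, h.inZ_comm h1 hkz hka, mul_inv_cancel_right]
    exact h1

/-- A normalised odd subgroup meets the centraliser of `z` trivially. -/
theorem odd_cap {O : Subgroup G} (hO : Odd (Nat.card O)) (hn : ∀ j ∈ J, ∀ o ∈ O, j * o * j⁻¹ ∈ O) {o : G}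
    (ho : o ∈ O) (hoz : o * z = z * o) : o = 1 := by
  have h2 : ∀ {j : G}, j ∈ J → ∃ k : ℕ, j ^ 2 ^ k = 1 := fun {j} hj => by
    obtain ⟨k, hk⟩ := (IsPGroup.of_card (p := 2) (n := 10) (show Nat.card J = 2 ^ 10 by rw [h.card_J]; rfl)) ⟨j, hj⟩
    exact ⟨k, congrArg Subtype.val hk⟩
  refine eq_one_of_two_odd (h2 (h.cent_le _ fun j hj => ?_)) (odd_order_of_mem hO ho)
  have h1 : o * j * o⁻¹ * j⁻¹ ∈ O := by
    rw [show o * j * o⁻¹ * j⁻¹ = o * (j * o⁻¹ * j⁻¹) by group]
    exact mul_mem ho (hn j hj _ (inv_mem ho))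
  have h3 := eq_one_of_two_odd (h2 (mul_mem (h.norm o hoz j hj) (inv_mem hj))) (odd_order_of_mem hO h1)
  calc o * j = o * j * o⁻¹ * j⁻¹ * (j * o) := by group
    _ = _ := by rw [h3, one_mul]

end Data

end CfsgLib.Recognition.USixCentral.Plane
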