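import Cfsg.Agent.Lib.Recognition.USixCentral.Plane.Residual
import Cfsg.Agent.Lib.Recognition.USixCentral.Modulo
import Cfsg.Agent.Lib.Recognition.USixTwoOuter.WSupplement

/-!
# Coordinates of `J` through the centraliser of `a` modulo `a`

The quotient is a configuration of the case of an extraspecial two-core; without a seed for natural coordinates its
plane pulls back to the plane `X` of `J`.
-/

set_option autoImplicit false
set_option maxRecDepth 100000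
set_option linter.unusedSectionVars false
set_option linter.style.haveILetI false

namespace CfsgLib.Recognition.USixCentral.Plane

open CfsgLib.ThreeTransp
open CfsgLib.Recognition.USixCentral (SplitAt Onto)
open CfsgLib.Recognition.USixTwoOuter (P40 K40 V gen N3 ew Hyp Ops Seed)

variable {G : Type*} [Group G] [Finite G]

/-- The configuration with its quotient. -/
structure Quot (z a : G) (J K : Subgroup G) {Q : Type*} [Group Q] (q : ↥(Subgroup.centralizer ({a} : Set G)) →* Q)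
    (Jq Kq : Subgroup Q) (zb : Q) (φ : ↥Kq →* P40) : Prop where
  ord_z : orderOf z = 2
  ord_a : orderOf a = 2
  ne : a ≠ z
  z_mem : z ∈ J
  a_mem : a ∈ J
  card_J : Nat.card J = 1024
  J_z : ∀ j ∈ J, j * z = z * j
  J_a : ∀ j ∈ J, j * a = a * j
  comm : ∀ i ∈ J, ∀ j ∈ J, i * j = j * i ∨ i * j = z * (j * i)
  sq : ∀ j ∈ J, j * j = 1 ∨ j * j = z
  centre : ∀ j ∈ J, (∀ i ∈ J, j * i = i * j) → InZ z a j
  cent_le : ∀ c, (∀ j ∈ J, c * j = j * c) → c ∈ J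
  norm : ∀ c, c * z = z * c → ∀ j ∈ J, c * j * c⁻¹ ∈ J
  K_z : ∀ k ∈ K, k * z = z * k
  K_a : ∀ k ∈ K, k * a = a * k
  J_K : J ≤ K
  K_norm : ∀ c, c * z = z * c → ∀ k ∈ K, c * k * c⁻¹ ∈ K
  K_par : ∀ c d, c * z = z * c → d * z = z * d → c ∉ K → d ∉ K → c * d ∈ K
  K_faith : ∀ c, c * z = z * c → (∀ k ∈ K, c * k * c⁻¹ * k⁻¹ ∈ J) → c ∈ J
  onto : Onto a q
  zb_def : ∀ x : ↥(Subgroup.centralizer ({a} : Set G)), (x : G) = z → q x = zb
  Jq_def : Jq = (J.subgroupOf (Subgroup.centralizer ({a} : Set G))).map q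
  Kq_def : Kq = (K.subgroupOf (Subgroup.centralizer ({a} : Set G))).map q
  lift : ∀ x : ↥(Subgroup.centralizer ({a} : Set G)), q x * zb = zb * q x → (x : G) * z = z * (x : G)
  hyp : Hyp zb Jq Kq φ

namespace Quot

variable {z a : G} {J K : Subgroup G} {Q : Type*} [Group Q] [Finite Q]
  {q : ↥(Subgroup.centralizer ({a} : Set G)) →* Q} {Jq Kq : Subgroup Q} {zb : Q} {φ : ↥Kq →* P40}
  (h : Quot z a J K q Jq Kq zb φ)
include h

theorem zz : z * z = 1 := by rw [← pow_two, ← h.ord_z, pow_orderOf_eq_one]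

theorem aa : a * a = 1 := by rw [← pow_two, ← h.ord_a, pow_orderOf_eq_one]

theorem z_ne : z ≠ 1 := fun e => by
  have := h.ord_z
  rw [e, orderOf_one] at this
  omega

theorem za : a * z = z * a := h.J_z a h.a_mem

theorem J_ca : J ≤ Subgroup.centralizer ({a} : Set G) := fun j hj =>
  Subgroup.mem_centralizer_singleton_iff.2 (h.J_a j hj)

theorem K_ca : K ≤ Subgroup.centralizer ({a} : Set G) := fun j hj =>
  Subgroup.mem_centralizer_singleton_iff.2 (h.K_a j hj)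

theorem mem_Jq {x : ↥(Subgroup.centralizer ({a} : Set G))} : q x ∈ Jq ↔ (x : G) ∈ J := by
  rw [h.Jq_def]
  constructor
  · rintro ⟨y, hy, e⟩
    rcases h.onto.eq_iff.1 e with e' | e'
    · rw [e']; exact hy
    · rw [e']; exact mul_mem hy h.a_mem
  · exact fun hx => ⟨x, hx, rfl⟩

theorem mem_Kq {x : ↥(Subgroup.centralizer ({a} : Set G))} : q x ∈ Kq ↔ (x : G) ∈ K := by
  rw [h.Kq_def]
  constructor
  · rintro ⟨y, hy, e⟩
    rcases h.onto.eq_iff.1 e with e' | e'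
    · rw [e']; exact hy
    · rw [e']; exact mul_mem hy (h.J_K h.a_mem)
  · exact fun hx => ⟨x, hx, rfl⟩

theorem exists_Kq {k : Q} (hk : k ∈ Kq) : ∃ x, ∃ hx : x ∈ K, q ⟨x, h.K_ca hx⟩ = k := by
  rw [h.Kq_def] at hk
  obtain ⟨y, hy, rfl⟩ := hk
  exact ⟨_, hy, rfl⟩

/-- The image of an element of `J`. -/
def jq {j : G} (hj : j ∈ J) : ↥Jq := ⟨q ⟨j, h.J_ca hj⟩, h.mem_Jq.2 hj⟩

/-- The image of an element of `K`. -/
def kq {k : G} (hk : k ∈ K) : ↥Kq := ⟨q ⟨k, h.K_ca hk⟩, h.mem_Kq.2 hk⟩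

theorem jq_mul {i j : G} (hi : i ∈ J) (hj : j ∈ J) : h.jq (mul_mem hi hj) = h.jq hi * h.jq hj :=
  Subtype.ext (map_mul q (⟨i, h.J_ca hi⟩ : ↥(Subgroup.centralizer ({a} : Set G))) ⟨j, h.J_ca hj⟩)

theorem kq_mul {i j : G} (hi : i ∈ K) (hj : j ∈ K) : h.kq (mul_mem hi hj) = h.kq hi * h.kq hj :=
  Subtype.ext (map_mul q (⟨i, h.K_ca hi⟩ : ↥(Subgroup.centralizer ({a} : Set G))) ⟨j, h.K_ca hj⟩)

theorem jq_surj (x : ↥Jq) : ∃ j, ∃ hj : j ∈ J, h.jq hj = x := by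
  obtain ⟨x, hx⟩ := x
  have hx' := hx
  rw [h.Jq_def] at hx'
  obtain ⟨y, hy, rfl⟩ := hx'
  exact ⟨(y : G), hy, rfl⟩

theorem hKn : ∀ c, c * zb = zb * c → ∀ k ∈ Kq, c * k * c⁻¹ ∈ Kq := by
  intro c hc k hk
  obtain ⟨y, rfl⟩ := h.onto.surj c
  obtain ⟨x, hx, rfl⟩ := h.exists_Kq hk
  rw [← map_inv, ← map_mul, ← map_mul]
  exact h.mem_Kq.2 (h.K_norm _ (h.lift y hc) x hx)

theorem hidx : ∀ c d, c * zb = zb * c → d * zb = zb * d → c ∉ Kq → d ∉ Kq → c * d ∈ Kq := by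
  intro c d hc hd hcK hdK
  obtain ⟨x, rfl⟩ := h.onto.surj c
  obtain ⟨y, rfl⟩ := h.onto.surj d
  rw [← map_mul]
  exact h.mem_Kq.2 (h.K_par _ _ (h.lift x hc) (h.lift y hd) (fun e => hcK (h.mem_Kq.2 e))
    fun e => hdK (h.mem_Kq.2 e))

theorem hcc : ∀ c, c * zb = zb * c → (∀ k ∈ Kq, c * k * c⁻¹ * k⁻¹ ∈ Jq) → c ∈ Jq := by
  intro c hc hk
  obtain ⟨x, rfl⟩ := h.onto.surj c
  refine h.mem_Jq.2 (h.K_faith _ (h.lift x hc) fun k hkK => ?_)
  have := hk _ (h.kq hkK).2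
  change q x * q ⟨k, h.K_ca hkK⟩ * (q x)⁻¹ * (q ⟨k, h.K_ca hkK⟩)⁻¹ ∈ Jq at this
  rw [← map_inv, ← map_inv, ← map_mul, ← map_mul, ← map_mul] at this
  exact h.mem_Jq.1 this

variable (f : ExtraspecialOut.Frame ↥Jq 8)

theorem fz : (f.z : Q) = zb := CfsgLib.Recognition.USixTwoOuter.frame_z h.hyp f

/-- The coordinates of an element of `J`. -/
def co {j : G} (hj : j ∈ J) : V := f.π (h.jq hj)

theorem co_mul {i j : G} (hi : i ∈ J) (hj : j ∈ J) : h.co f (mul_mem hi hj) = h.co f hi + h.co f hj := by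
  rw [co, h.jq_mul hi hj, f.π_mul]; rfl

theorem co_inv {j : G} (hj : j ∈ J) : h.co f (inv_mem hj) = h.co f hj := by
  have : h.jq (inv_mem hj) = (h.jq hj)⁻¹ := Subtype.ext (map_inv q (⟨j, h.J_ca hj⟩ : ↥(Subgroup.centralizer ({a} : Set G))))
  rw [co, this, ExtraspecialOut.π_inv]; rfl

theorem co_one : h.co f (one_mem J) = 0 := by
  have : h.jq (one_mem J) = 1 := Subtype.ext (map_one q)
  rw [co, this, ExtraspecialOut.π_one]

theorem co_congr {i j : G} (hi : i ∈ J) (hj : j ∈ J) (e : i = j) : h.co f hi = h.co f hj := by subst e; rfl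

theorem co_surj (v : V) : ∃ j, ∃ hj : j ∈ J, h.co f hj = v := by
  obtain ⟨x, rfl⟩ := f.π_surj v
  obtain ⟨j, hj, e⟩ := h.jq_surj x
  exact ⟨j, hj, by rw [co, e]⟩

theorem jq_cases {j : G} (hj : j ∈ J) : (h.jq hj = 1 ↔ (j = 1 ∨ j = a)) ∧ (h.jq hj = f.z ↔ (j = z ∨ j = z * a)) := by
  refine ⟨?_, ?_⟩
  · rw [← Subtype.coe_inj]
    exact h.onto.ker ⟨j, h.J_ca hj⟩
  · rw [← Subtype.coe_inj]
    show q ⟨j, h.J_ca hj⟩ = (f.z : Q) ↔ _
    rw [(h.fz f).trans (h.zb_def ⟨z, h.J_ca h.z_mem⟩ rfl).symm]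
    rw [eq_comm, h.onto.eq_iff]

theorem co_eq_zero {j : G} (hj : j ∈ J) : h.co f hj = 0 ↔ InZ z a j := by
  rw [co, f.π_ker, (h.jq_cases f hj).1, (h.jq_cases f hj).2, InZ]
  tauto

theorem inZ_mem {c : G} (hc : InZ z a c) : c ∈ J := by
  rcases hc with rfl | rfl | rfl | rfl
  · exact one_mem _
  · exact h.z_mem
  · exact h.a_mem
  · exact mul_mem h.z_mem h.a_mem

theorem co_inZ {c : G} (hc : InZ z a c) : h.co f (h.inZ_mem hc) = 0 := (h.co_eq_zero f _).2 hc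

theorem inZ_of_co {i j : G} (hi : i ∈ J) (hj : j ∈ J) (e : h.co f hi = h.co f hj) : InZ z a (i⁻¹ * j) :=
  (h.co_eq_zero f (mul_mem (inv_mem hi) hj)).1 (by rw [h.co_mul f (inv_mem hi) hj, h.co_inv f hi, e, ZModModule.add_self])

theorem co_sq {j : G} (hj : j ∈ J) : ExtraspecialOut.Q f (h.co f hj) = 0 ↔ j * j = 1 := by
  classical
  rw [ExtraspecialOut.Q_apply, co, ExtraspecialOut.qf_π, ExtraspecialOut.ε, ← h.jq_mul hj hj]
  constructor
  · intro e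
    by_contra hne
    have hzc : j * j = z := (h.sq j hj).resolve_left hne
    rw [if_neg] at e
    · exact one_ne_zero e
    rw [(h.jq_cases f (mul_mem hj hj)).1, hzc]
    rintro (e' | e')
    · exact h.z_ne e'
    · exact h.ne e'.symm
  · intro e
    rw [if_pos ((h.jq_cases f (mul_mem hj hj)).1.2 (Or.inl e))]

theorem co_comm {i j : G} (hi : i ∈ J) (hj : j ∈ J) :
    QuadraticMap.polarBilin (ExtraspecialOut.Q f) (h.co f hi) (h.co f hj) = 0 ↔ i * j = j * i := by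
  classical
  have hm : i⁻¹ * j * i * j⁻¹ ∈ J := mul_mem (mul_mem (mul_mem (inv_mem hi) hj) hi) (inv_mem hj)
  have hcm : ExtraspecialOut.cm (h.jq hi) (h.jq hj) = h.jq hm := by
    refine Subtype.ext ?_
    show (q ⟨i, h.J_ca hi⟩)⁻¹ * q ⟨j, h.J_ca hj⟩ * q ⟨i, h.J_ca hi⟩ * (q ⟨j, h.J_ca hj⟩)⁻¹ = q ⟨_, h.J_ca hm⟩
    rw [← map_inv, ← map_inv, ← map_mul, ← map_mul, ← map_mul]
    exact congrArg q (Subtype.ext rfl)
  rw [co, co, QuadraticMap.polarBilin_apply_apply, ExtraspecialOut.polar_Q, hcm, ExtraspecialOut.ε]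
  constructor
  · intro e
    rcases h.comm i hi j hj with c | c
    · exact c
    exfalso
    rw [if_neg] at e
    · exact one_ne_zero e
    have hval : i⁻¹ * j * i * j⁻¹ = z := by
      have e1 : j * i = z * (i * j) := by rw [c, ← mul_assoc, h.zz, one_mul]
      rw [mul_assoc i⁻¹ j i, e1, ← mul_assoc, show i⁻¹ * z = z * i⁻¹ from (Commute.inv_left (h.J_z i hi)).eq]
      group
    rw [(h.jq_cases f hm).1, hval]
    rintro (e' | e')
    · exact h.z_ne e'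
    · exact h.ne e'.symm
  · intro e
    rw [if_pos ((h.jq_cases f hm).1.2 (Or.inl (by rw [mul_assoc i⁻¹ j i, ← e]; group)))]

/-- The action of `K` in coordinates. -/
theorem co_act {k j : G} (hk : k ∈ K) (hj : j ∈ J) :
    CfsgLib.Recognition.USixTwoOuter.lin f h.hyp Kq h.hyp.K_le (h.kq hk) (h.co f hj) =
      h.co f (h.norm k (h.K_z k hk) j hj) := by
  rw [co, CfsgLib.Recognition.USixTwoOuter.lin_apply, co]
  refine congrArg f.π (Subtype.ext ?_)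
  show q ⟨k, h.K_ca hk⟩ * q ⟨j, h.J_ca hj⟩ * (q ⟨k, h.K_ca hk⟩)⁻¹ = q ⟨_, _⟩
  rw [← map_inv, ← map_mul, ← map_mul]
  exact congrArg q (Subtype.ext rfl)

end Quot

end CfsgLib.Recognition.USixCentral.Plane
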