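import Cfsg.Agent.Lib.Recognition.USixCentral.Plane.Basic

/-!
# Conjugates of `z` in the centraliser: they lie in `K` and outside `J`
-/

set_option autoImplicit false
set_option linter.unusedSectionVars false
set_option linter.style.haveILetI false

namespace CfsgLib.Recognition.USixCentral.Plane

open CfsgLib.Recognition.USixCentral (SplitAt eq_one_of_two_odd odd_order_of_mem)

variable {G : Type*} [Group G] [Finite G]

namespace Data

variable {z a : G} {J X W K P : Subgroup G} (h : Data z a J X W K P)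
include h

theorem inZ_swap {c : G} : InZ z (z * a) c ↔ InZ z a c := by
  simp only [InZ, h.z_za]; tauto

/-- The roles of `a` and `z * a` may be exchanged. -/
theorem swap : Data z (z * a) J X W K P where
  ord_z := h.ord_z
  ord_a := orderOf_eq_prime (by rw [pow_two, h.za_sq]) h.za_ne
  ne e := h.a_ne (mul_eq_left.1 e)
  z_mem := h.z_mem
  a_mem := mul_mem h.z_mem h.a_mem
  card_J := h.card_J
  J_z := h.J_z
  J_a j hj := h.inZ_J_comm (Or.inr (Or.inr (Or.inr rfl))) hj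
  comm := h.comm
  sq := h.sq
  centre j hj hc := h.inZ_swap.2 (h.centre j hj hc)
  cent_le := h.cent_le
  norm := h.norm
  X_le := h.X_le
  W_iff := h.W_iff
  span := h.span
  X_iff j := by rw [h.X_iff j]; simp only [h.inZ_swap]
  X_card := h.X_card
  X_anti x hx y hy := by simpa only [h.inZ_swap] using h.X_anti x hx y hy
  W_root := h.W_root
  K_z := h.K_z
  K_a k hk := by rw [← mul_assoc, h.K_z k hk, mul_assoc, h.K_a k hk, ← mul_assoc]
  J_K := h.J_K
  K_norm := h.K_norm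
  K_par := h.K_par
  P_def := h.P_def
  K_gen := h.K_gen
  twoLe := h.twoLe
  five e he := by simpa only [h.inZ_swap] using h.five e he
  faith k hk hf := h.faith k hk (by simpa only [h.inZ_swap] using hf)
  W_gen e he := by simpa only [h.inZ_swap] using h.W_gen e he
  z_P := h.z_P
  W_four := h.W_four
  noTen := h.noTen
  noQ8 := h.noQ8
  splitA := h.splitB
  splitB := by rw [h.z_za]; exact h.splitA

/-- The centraliser of `z` permutes `a` and `z * a`. -/
theorem conj_a {c : G} (hc : c * z = z * c) : c * a * c⁻¹ = a ∨ c * a * c⁻¹ = z * a := by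
  have hm := h.norm c hc a h.aJ
  have hcen : InZ z a (c * a * c⁻¹) := h.centre _ hm fun i hi => by
    have h1 := h.J_a _ (h.norm c⁻¹ (Commute.inv_left hc).eq i hi)
    rw [inv_inv] at h1
    calc c * a * c⁻¹ * i = c * (a * (c⁻¹ * i * c)) * c⁻¹ := by group
      _ = i * (c * a * c⁻¹) := by rw [← h1]; group
  rcases hcen with e | e | e | e
  · exact absurd (conj_eq_one_iff.1 e) h.a_ne
  · refine absurd ?_ h.ne
    calc a = c⁻¹ * (c * a * c⁻¹) * c := by group
      _ = c⁻¹ * (z * c) := by rw [e, mul_assoc]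
      _ = z := by rw [← hc, inv_mul_cancel_left]
  · exact Or.inl e
  · exact Or.inr e

theorem K_of_sq {c : G} (hc : c * z = z * c) : c * c ∈ K := by
  by_cases hk : c ∈ K
  · exact mul_mem hk hk
  · exact h.K_par c c hc hc hk hk

theorem conj_inZ {c : G} (hc : c * z = z * c) {u : G} (hu : InZ z a u) : InZ z a (c * u * c⁻¹) := by
  rcases hu with rfl | rfl | rfl | rfl
  · rw [mul_one, mul_inv_cancel]; exact Or.inl rfl
  · exact Or.inr (Or.inl (mul_inv_eq_iff_eq_mul.2 hc))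
  · rcases h.conj_a hc with e | e <;> rw [e]
    · exact Or.inr (Or.inr (Or.inl rfl))
    · exact Or.inr (Or.inr (Or.inr rfl))
  · rw [show c * (z * a) * c⁻¹ = c * z * c⁻¹ * (c * a * c⁻¹) by group, mul_inv_eq_iff_eq_mul.2 hc]
    rcases h.conj_a hc with e | e <;> rw [e]
    · exact Or.inr (Or.inr (Or.inr rfl))
    · rw [h.z_za]; exact Or.inr (Or.inr (Or.inl rfl))

theorem X_norm {c : G} (hc : c * z = z * c) {x : G} (hx : x ∈ X) : c * x * c⁻¹ ∈ X := by
  obtain ⟨hxJ, hxK⟩ := (h.X_iff x).1 hx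
  refine (h.X_iff _).2 ⟨h.norm c hc x hxJ, fun k hk => ?_⟩
  have hk' := h.K_norm c⁻¹ (Commute.inv_left hc).eq k hk
  rw [inv_inv] at hk'
  have h1 := h.conj_inZ hc (hxK _ hk')
  convert h1 using 1
  group

/-- An odd normalised subgroup of the centraliser: conjugates of `z` under it. -/
theorem split_fix {l : G} (hl : l * a = a * l) (hc : l * z * l⁻¹ * z = z * (l * z * l⁻¹)) : l * z * l⁻¹ = z := by
  obtain ⟨O, hOX, hodd, hn, hdec⟩ := h.splitA
  obtain ⟨c, hcz, o, ho, rfl⟩ := hdec l (Subgroup.mem_centralizer_singleton_iff.2 hl)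
  have hzX : z ∈ Subgroup.centralizer ({a} : Set G) := Subgroup.mem_centralizer_singleton_iff.2 h.za.symm
  have hd : o * z * o⁻¹ * z⁻¹ ∈ O := by
    rw [show o * z * o⁻¹ * z⁻¹ = o * (z * o⁻¹ * z⁻¹) by group]
    exact mul_mem ho (hn z hzX _ (inv_mem ho))
  have e : c * o * z * (c * o)⁻¹ = c * (o * z * o⁻¹) * c⁻¹ := by group
  rw [e] at hc ⊢
  have h2 : o * z * o⁻¹ * z = z * (o * z * o⁻¹) := by
    have hci : c⁻¹ * z * c = z := by rw [mul_assoc, ← hcz, inv_mul_cancel_left]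
    calc o * z * o⁻¹ * z = c⁻¹ * (c * (o * z * o⁻¹) * c⁻¹ * z) * c := by
          calc o * z * o⁻¹ * z = o * z * o⁻¹ * (c⁻¹ * z * c) := by rw [hci]
            _ = _ := by group
      _ = c⁻¹ * z * c * (o * z * o⁻¹) := by rw [hc]; group
      _ = _ := by rw [hci]
  have h3 : o * z * o⁻¹ * z⁻¹ = 1 := h.odd_cap hodd
    (fun j hj o' ho' => hn j (Subgroup.mem_centralizer_singleton_iff.2 (h.J_a j hj)) o' ho') hd (by
      rw [mul_assoc _ z⁻¹ z, inv_mul_cancel, mul_one, ← mul_assoc, ← h2, mul_inv_cancel_right])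
  rw [mul_inv_eq_one] at h3
  rw [h3, hcz, mul_inv_cancel_right]

/-- The centraliser in `J` of a conjugate of `a` centralises the conjugate of `z`. -/
theorem pullback {g : G} (hy : g * z * g⁻¹ * z = z * (g * z * g⁻¹)) (hx : g * a * g⁻¹ * z = z * (g * a * g⁻¹))
    {j : G} (hj : j ∈ J) (hjx : j * (g * a * g⁻¹) = g * a * g⁻¹ * j) : j * (g * z * g⁻¹) = g * z * g⁻¹ * j := by
  obtain ⟨O, hOX, hodd, hn, hdec⟩ := h.splitA
  have hzX : z ∈ Subgroup.centralizer ({a} : Set G) := Subgroup.mem_centralizer_singleton_iff.2 h.za.symm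
  set y := g * z * g⁻¹ with hydef
  have hy2 : y * y = 1 := by
    rw [hydef, show g * z * g⁻¹ * (g * z * g⁻¹) = g * (z * z) * g⁻¹ by group, h.zz]; group
  set c' := g⁻¹ * j * g with hc'
  have hca : c' * a = a * c' := by
    calc c' * a = g⁻¹ * (j * (g * a * g⁻¹)) * g := by rw [hc']; group
      _ = _ := by rw [hjx, hc']; group
  obtain ⟨d, hdz, o, ho, e⟩ := hdec c' (Subgroup.mem_centralizer_singleton_iff.2 hca)
  have hdX : d ∈ Subgroup.centralizer ({a} : Set G) := by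
    rw [show d = c' * o⁻¹ by rw [e]; group]
    exact mul_mem (Subgroup.mem_centralizer_singleton_iff.2 hca) (inv_mem (hOX ho))
  have hmem : g⁻¹ * (j * y * j⁻¹ * y) * g ∈ O := by
    have hoz : o * z * o⁻¹ * z ∈ O := by
      rw [show o * z * o⁻¹ * z = o * (z * o⁻¹ * z⁻¹) by rw [inv_eq_of_mul_eq_one_right h.zz]; group]
      exact mul_mem ho (hn z hzX _ (inv_mem ho))
    rw [show g⁻¹ * (j * y * j⁻¹ * y) * g = c' * z * c'⁻¹ * z by rw [hc', hydef]; group, e,
      show d * o * z * (d * o)⁻¹ * z = d * (o * z * o⁻¹ * z) * (z⁻¹ * d⁻¹ * z) by group]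
    rw [mul_assoc z⁻¹, show d⁻¹ * z = z * d⁻¹ from (Commute.inv_left hdz).eq, inv_mul_cancel_left]
    exact hn d hdX _ hoz
  have hJm : j * y * j⁻¹ * y ∈ J := by
    have := mul_mem hj (h.norm y hy j⁻¹ (inv_mem hj))
    rwa [inv_eq_of_mul_eq_one_right hy2, show j * (y * j⁻¹ * y) = j * y * j⁻¹ * y by group] at this
  obtain ⟨k, hk⟩ := (IsPGroup.of_card (p := 2) (n := 10) (show Nat.card J = 2 ^ 10 by rw [h.card_J]; rfl)) ⟨_, hJm⟩
  have hk' : (j * y * j⁻¹ * y) ^ 2 ^ k = 1 := congrArg Subtype.val hk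
  have h1 := eq_one_of_two_odd (x := g⁻¹ * (j * y * j⁻¹ * y) * g) ⟨k, by
    have := (conj_pow (i := 2 ^ k) (a := g⁻¹) (b := j * y * j⁻¹ * y))
    rw [inv_inv] at this
    rw [this, hk']; group⟩ (odd_order_of_mem hodd hmem)
  have h2 : j * y * j⁻¹ * y = 1 := by
    calc j * y * j⁻¹ * y = g * (g⁻¹ * (j * y * j⁻¹ * y) * g) * g⁻¹ := by group
      _ = 1 := by rw [h1]; group
  rw [mul_eq_one_iff_eq_inv, inv_eq_of_mul_eq_one_right hy2] at h2
  exact mul_inv_eq_iff_eq_mul.1 h2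

theorem back {g c : G} (hc : c * (g * z * g⁻¹) = g * z * g⁻¹ * c) : g⁻¹ * c * g * z = z * (g⁻¹ * c * g) := by
  calc g⁻¹ * c * g * z = g⁻¹ * (c * (g * z * g⁻¹)) * g := by group
    _ = _ := by rw [hc]; group

/-- A root of `z` in `J` commuting with a conjugate puts the partner in `K`. -/
theorem root {g f : G} (hf2 : f * f = z) (hc : f * (g * z * g⁻¹) = g * z * g⁻¹ * f) : g⁻¹ * z * g ∈ K := by
  have := h.K_of_sq (h.back hc)
  rwa [show g⁻¹ * f * g * (g⁻¹ * f * g) = g⁻¹ * (f * f) * g by group, hf2] at this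

theorem conj_z_sq (g : G) : g * z * g⁻¹ * (g * z * g⁻¹) = 1 := by
  rw [show g * z * g⁻¹ * (g * z * g⁻¹) = g * (z * z) * g⁻¹ by group, h.zz]; group

theorem partner_comm {g : G} (hy : g * z * g⁻¹ * z = z * (g * z * g⁻¹)) :
    g⁻¹ * z * g⁻¹⁻¹ * z = z * (g⁻¹ * z * g⁻¹⁻¹) := by
  rw [inv_inv]
  exact h.back hy.symm

theorem x_comm_z {g : G} (hw : g⁻¹ * z * g * a = a * (g⁻¹ * z * g)) :
    g * a * g⁻¹ * z = z * (g * a * g⁻¹) := by
  calc g * a * g⁻¹ * z = g * (a * (g⁻¹ * z * g)) * g⁻¹ := by group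
    _ = _ := by rw [← hw]; group

/-- A conjugate of `z` in the centraliser fixes `a`. -/
theorem fix_conj {g : G} (hy : g * z * g⁻¹ * z = z * (g * z * g⁻¹)) : g * z * g⁻¹ * a = a * (g * z * g⁻¹) := by
  by_contra hne
  set y := g * z * g⁻¹ with hydef
  have y2 : y * y = 1 := h.conj_z_sq g
  have hyi : y⁻¹ = y := inv_eq_of_mul_eq_one_right y2
  have hsw : y * a * y⁻¹ = z * a := (h.conj_a hy).resolve_left fun e => hne (mul_inv_eq_iff_eq_mul.1 e)
  obtain ⟨x₀, hx₀, hs₀⟩ := h.exists_four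
  have hn₀ : ¬ InZ z a x₀ := fun e => h.z_ne (by rw [← hs₀, h.inZ_sq e])
  obtain ⟨f, hf, hfs, hfix⟩ : ∃ f ∈ X, f * f = z ∧ InZ z a (f⁻¹ * (y * f * y⁻¹)) := by
    by_cases hfx : InZ z a (x₀⁻¹ * (y * x₀ * y⁻¹))
    · exact ⟨x₀, hx₀, hs₀, hfx⟩
    set x₁ := y * x₀ * y⁻¹ with hx₁
    have hx₁X : x₁ ∈ X := h.X_norm hy hx₀
    have hx₁J := h.X_le hx₁X
    have hx₀J := h.X_le hx₀
    have hyx₁ : y * x₁ * y⁻¹ = x₀ := by
      rw [hx₁, show y * (y * x₀ * y⁻¹) * y⁻¹ = y * y * x₀ * (y * y)⁻¹ by group, y2]; group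
    have hn₁ : ¬ InZ z a x₁ := fun e' => hn₀ (by rw [← hyx₁]; exact h.conj_inZ hy e')
    have hn₂ : ¬ InZ z a (x₀ * x₁) := fun e' => hfx (by
      have hsqZ : InZ z a ((x₀ * x₀)⁻¹) := h.inZ_inv (by rw [hs₀]; exact Or.inr (Or.inl rfl))
      have := h.inZ_mul hsqZ e'
      rwa [show (x₀ * x₀)⁻¹ * (x₀ * x₁) = x₀⁻¹ * x₁ by group] at this)
    have hanti := h.X_anti x₀ hx₀ x₁ hx₁X hn₀ hn₁ hn₂
    refine ⟨x₀ * x₁, mul_mem hx₀ hx₁X, ?_, ?_⟩
    · have hs₁ : x₁ * x₁ = z := by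
        rw [hx₁, show y * x₀ * y⁻¹ * (y * x₀ * y⁻¹) = y * (x₀ * x₀) * y⁻¹ by group, hs₀, hy,
          mul_inv_cancel_right]
      calc x₀ * x₁ * (x₀ * x₁) = x₀ * (x₁ * x₀) * x₁ := by group
        _ = x₀ * z * x₀ * (x₁ * x₁) := by rw [hanti]; group
        _ = z * x₀ * x₀ * z := by rw [h.J_z x₀ hx₀J, hs₁]
        _ = z * (x₀ * x₀) * z := by group
        _ = z := by rw [hs₀, h.zz, one_mul]
    · have e : y * (x₀ * x₁) * y⁻¹ = x₁ * x₀ := by
        rw [show y * (x₀ * x₁) * y⁻¹ = y * x₀ * y⁻¹ * (y * x₁ * y⁻¹) by group, hyx₁]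
      rw [e]
      rcases h.comm x₁ hx₁J x₀ hx₀J with e' | e'
      · rw [e', inv_mul_cancel]; exact Or.inl rfl
      · refine Or.inr (Or.inl ?_)
        rw [e', ← h.J_z _ (mul_mem hx₀J hx₁J), inv_mul_cancel_left]
  set c := f⁻¹ * (y * f * y⁻¹) with hcdef
  have ef : y * f * y⁻¹ = f * c := by rw [hcdef, mul_inv_cancel_left]
  have hc1 : y * c * y⁻¹ = c := by
    have e1 : f = f * c * (y * c * y⁻¹) := by
      calc f = y * y * f * (y * y)⁻¹ := by rw [y2]; group
        _ = y * (y * f * y⁻¹) * y⁻¹ := by group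
        _ = y * (f * c) * y⁻¹ := by rw [ef]
        _ = y * f * y⁻¹ * (y * c * y⁻¹) := by group
        _ = _ := by rw [ef]
    have e2 : c * (y * c * y⁻¹) = 1 := by
      rw [mul_assoc] at e1
      exact mul_eq_left.1 e1.symm
    calc y * c * y⁻¹ = c⁻¹ := eq_inv_of_mul_eq_one_right e2
      _ = c := inv_eq_of_mul_eq_one_right (h.inZ_sq hfix)
  obtain ⟨f', hf', hf'2, hf'y⟩ : ∃ f' ∈ J, f' * f' = z ∧ f' * y = y * f' := by
    rcases hfix with e | e | e | e
    · refine ⟨f, h.X_le hf, hfs, ?_⟩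
      rw [e, mul_one] at ef
      exact (mul_inv_eq_iff_eq_mul.1 ef).symm
    · refine ⟨f * a, mul_mem (h.X_le hf) h.aJ, ?_, ?_⟩
      · calc f * a * (f * a) = f * (a * f) * a := by group
          _ = f * f * (a * a) := by rw [← h.J_a f (h.X_le hf)]; group
          _ = z := by rw [hfs, h.aa, mul_one]
      · refine (mul_inv_eq_iff_eq_mul.1 ?_).symm
        rw [show y * (f * a) * y⁻¹ = y * f * y⁻¹ * (y * a * y⁻¹) by group, ef, hsw, e, mul_assoc, h.z_za]
    · rw [e, hsw] at hc1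
      exact absurd (mul_eq_right.1 hc1) h.z_ne
    · rw [e, show y * (z * a) * y⁻¹ = y * z * y⁻¹ * (y * a * y⁻¹) by group, hsw, mul_inv_eq_iff_eq_mul.2 hy,
        h.z_za] at hc1
      exact absurd (mul_eq_right.1 hc1.symm) h.z_ne
  have hw := h.K_a _ (h.root hf'2 hf'y)
  have hxz := h.x_comm_z hw
  have hxz' : g * (z * a) * g⁻¹ * z = z * (g * (z * a) * g⁻¹) := h.swap.x_comm_z (g := g) (by
    rw [← mul_assoc, show g⁻¹ * z * g * z = z * (g⁻¹ * z * g) by
      have := h.partner_comm hy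
      rwa [inv_inv] at this, mul_assoc, hw, ← mul_assoc])
  have e12 : g * (z * a) * g⁻¹ = y * (g * a * g⁻¹) := by rw [hydef]; group
  rcases h.conj_a hxz with e | e
  · exact hne (h.pullback hy hxz h.aJ (mul_inv_eq_iff_eq_mul.1 e).symm).symm
  · refine hne (h.swap.pullback hy hxz' h.aJ (mul_inv_eq_iff_eq_mul.1 ?_).symm).symm
    rw [e12, show y * (g * a * g⁻¹) * a * (y * (g * a * g⁻¹))⁻¹ = y * (g * a * g⁻¹ * a * (g * a * g⁻¹)⁻¹) * y⁻¹ by
      group, e, show y * (z * a) * y⁻¹ = y * z * y⁻¹ * (y * a * y⁻¹) by group, hsw, mul_inv_eq_iff_eq_mul.2 hy,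
      h.z_za]

/-- Both partners of a conjugate in the centraliser centralise `z`. -/
theorem x_mem {g : G} (hy : g * z * g⁻¹ * z = z * (g * z * g⁻¹)) : g * a * g⁻¹ * z = z * (g * a * g⁻¹) := by
  refine h.x_comm_z ?_
  have := h.fix_conj (h.partner_comm hy)
  rwa [inv_inv] at this

/-- Conjugates of `z` in the centraliser lie in `K`. -/
theorem inner {g : G} (hy : g * z * g⁻¹ * z = z * (g * z * g⁻¹)) : g * z * g⁻¹ ∈ K := by
  have key : ∀ {g : G}, g * z * g⁻¹ * z = z * (g * z * g⁻¹) → g⁻¹ * z * g ∈ K := by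
    intro g hy
    have hy2 := h.conj_z_sq g
    by_cases hyK : g * z * g⁻¹ ∈ K
    · obtain ⟨f, hf, hf2, hfy⟩ := h.W_root _ hyK hy2
      exact h.root hf2 hfy
    have hxz := h.x_mem hy
    have hxz' : g * (z * a) * g⁻¹ * z = z * (g * (z * a) * g⁻¹) := h.swap.x_mem hy
    by_cases hxK : g * a * g⁻¹ ∈ K
    · obtain ⟨f, hf, hf2, hfx⟩ := h.W_root _ hxK (by
        rw [show g * a * g⁻¹ * (g * a * g⁻¹) = g * (a * a) * g⁻¹ by group, h.aa]; group)
      exact h.root hf2 (h.pullback hy hxz (h.W_le hf) hfx)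
    · have hk : g * (z * a) * g⁻¹ ∈ K := by
        rw [show g * (z * a) * g⁻¹ = g * z * g⁻¹ * (g * a * g⁻¹) by group]
        exact h.K_par _ _ hy hxz hyK hxK
      obtain ⟨f, hf, hf2, hfx⟩ := h.W_root _ hk (by
        rw [show g * (z * a) * g⁻¹ * (g * (z * a) * g⁻¹) = g * (z * a * (z * a)) * g⁻¹ by group, h.za_sq]; group)
      exact h.root hf2 (h.swap.pullback hy hxz' (h.W_le hf) hfx)
  have := key (g := g⁻¹) (h.partner_comm hy)
  rwa [inv_inv] at this

/-- The partner commutes with `a`. -/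
theorem x_comm_a {g : G} (hy : g * z * g⁻¹ * z = z * (g * z * g⁻¹)) (hne : g * z * g⁻¹ ≠ z) :
    g * a * g⁻¹ * a = a * (g * a * g⁻¹) := by
  by_contra hn
  have hxz := h.x_mem hy
  have hax : a * (g * z * g⁻¹) = g * z * g⁻¹ * a := (h.fix_conj hy).symm
  set x := g * a * g⁻¹ with hx
  set y := g * z * g⁻¹ with hydef
  have hx2 : x * x = 1 := by rw [hx, show g * a * g⁻¹ * (g * a * g⁻¹) = g * (a * a) * g⁻¹ by group, h.aa]; group
  have hs : x * a * x⁻¹ = z * a := (h.conj_a hxz).resolve_left fun e => hn (mul_inv_eq_iff_eq_mul.1 e)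
  rw [inv_eq_of_mul_eq_one_right hx2] at hs
  rcases h.conj_a (h.back hax) with e | e
  · apply hn
    have e1 : g⁻¹ * a * g * a = a * (g⁻¹ * a * g) := mul_inv_eq_iff_eq_mul.1 e
    calc x * a = g * (a * (g⁻¹ * a * g)) * g⁻¹ := by rw [hx]; group
      _ = _ := by rw [← e1, hx]; group
  · apply hne
    have e1 : a * x * a = y * x := by
      calc a * x * a = g * (g⁻¹ * a * g * a * (g⁻¹ * a * g)⁻¹) * g⁻¹ * (a * a) := by rw [hx]; group
        _ = _ := by rw [h.aa, mul_one, e, hx, hydef]; group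
    calc y = a * x * a * x := by rw [e1, mul_assoc, hx2, mul_one]
      _ = a * (x * a * x) := by group
      _ = z := by rw [hs, ← mul_assoc, h.za, mul_assoc, h.aa, mul_one]

/-- `z` is not conjugate to `a`. -/
theorem not_conj_a (g : G) : g * z * g⁻¹ ≠ a := by
  intro e
  obtain ⟨O, hOX, hodd, hn, hdec⟩ := h.splitA
  set R := J.map (MulAut.conj g).toMonoidHom with hR
  have hRmem : ∀ {u}, u ∈ R ↔ g⁻¹ * u * g ∈ J := by
    intro u
    rw [hR, Subgroup.mem_map]
    constructor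
    · rintro ⟨j, hj, rfl⟩; simpa [mul_assoc] using hj
    · exact fun hu => ⟨_, hu, by simp [mul_assoc]⟩
  have hRn : ∀ c, c * a = a * c → ∀ u ∈ R, c * u * c⁻¹ ∈ R := by
    intro c hc u hu
    rw [hRmem] at hu ⊢
    have h1 : g⁻¹ * c * g * z = z * (g⁻¹ * c * g) := h.back (by rw [e]; exact hc)
    have := h.norm _ h1 _ hu
    rwa [show g⁻¹ * c * g * (g⁻¹ * u * g) * (g⁻¹ * c * g)⁻¹ = g⁻¹ * (c * u * c⁻¹) * g by group] at this
  have hR2 : IsPGroup 2 R := (IsPGroup.of_card (p := 2) (n := 10) (show Nat.card J = 2 ^ 10 by rw [h.card_J]; rfl)).map _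
  have hRC : R ≤ Subgroup.centralizer ({z} : Set G) := fun u hu => by
    refine Subgroup.mem_centralizer_singleton_iff.2 ?_
    have hua : u * a = a * u := by
      rw [← e]
      calc u * (g * z * g⁻¹) = g * (g⁻¹ * u * g * z) * g⁻¹ := by group
        _ = _ := by rw [h.J_z _ (hRmem.1 hu)]; group
    obtain ⟨c, hcz, o, ho, eu⟩ := hdec u (Subgroup.mem_centralizer_singleton_iff.2 hua)
    have hzX : z ∈ Subgroup.centralizer ({a} : Set G) := Subgroup.mem_centralizer_singleton_iff.2 h.za.symm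
    have h1 : u * z * u⁻¹ * z⁻¹ ∈ R := by
      rw [show u * z * u⁻¹ * z⁻¹ = u * (z * u⁻¹ * z⁻¹) by group]
      exact mul_mem hu (hRn z h.za.symm _ (inv_mem hu))
    have h2 : u * z * u⁻¹ * z⁻¹ ∈ O := by
      have hcX : c ∈ Subgroup.centralizer ({a} : Set G) := by
        rw [show c = u * o⁻¹ by rw [eu]; group]
        exact mul_mem (Subgroup.mem_centralizer_singleton_iff.2 hua) (inv_mem (hOX ho))
      have := hn c hcX _ (show o * (z * o⁻¹ * z⁻¹) ∈ O from mul_mem ho (hn z hzX _ (inv_mem ho)))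
      have hcz' : c⁻¹ * z⁻¹ = z⁻¹ * c⁻¹ := by rw [← mul_inv_rev, ← mul_inv_rev, hcz]
      convert this using 1
      calc u * z * u⁻¹ * z⁻¹ = c * o * z * o⁻¹ * (c⁻¹ * z⁻¹) := by rw [eu]; group
        _ = _ := by rw [hcz']; group
    obtain ⟨k, hk⟩ := hR2 ⟨_, h1⟩
    have h3 := eq_one_of_two_odd ⟨k, (congrArg Subtype.val hk :)⟩ (odd_order_of_mem hodd h2)
    rw [mul_inv_eq_one, mul_inv_eq_iff_eq_mul] at h3
    exact h3
  have hRJ : R ≤ J := h.twoLe R hR2 hRC fun k hk => hRn k (h.K_a k hk)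
  obtain ⟨x, hx, hxn⟩ := h.exists_X
  obtain ⟨l, hl, hne⟩ : ∃ l ∈ J, x * l ≠ l * x := by
    by_contra hc
    push Not at hc
    exact hxn (h.centre x (h.X_le hx) hc)
  have hxJ := h.X_le hx
  have exl := (h.comm x hxJ l hl).resolve_left hne
  have m1 : g * x * g⁻¹ ∈ J := hRJ ⟨x, hxJ, rfl⟩
  have m2 : g * l * g⁻¹ ∈ J := hRJ ⟨l, hl, rfl⟩
  have e3 : g * x * g⁻¹ * (g * l * g⁻¹) = a * (g * l * g⁻¹ * (g * x * g⁻¹)) := by
    rw [show g * x * g⁻¹ * (g * l * g⁻¹) = g * (x * l) * g⁻¹ by group, exl, ← e]; group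
  rcases h.comm _ m1 _ m2 with e4 | e4 <;> rw [e4] at e3
  · exact h.a_ne (mul_eq_right.1 e3.symm)
  · exact h.ne (mul_right_cancel e3).symm

/-- A conjugate of `z` in the centre of `J` is `z`. -/
theorem conj_eq_of_inZ {g : G} (hc : InZ z a (g * z * g⁻¹)) : g * z * g⁻¹ = z := by
  rcases hc with e | e | e | e
  · exact absurd (conj_eq_one_iff.1 e) h.z_ne
  · exact e
  · exact absurd e (h.not_conj_a g)
  · exact absurd e (h.swap.not_conj_a g)

theorem conj_of_cent {g : G} (hc : ∀ j ∈ J, g * z * g⁻¹ * j = j * (g * z * g⁻¹)) : g * z = z * g :=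
  mul_inv_eq_iff_eq_mul.1 (h.conj_eq_of_inZ (h.centre _ (h.cent_le _ hc) hc))

/-- A Sylow subgroup of `G` containing `J` and centralising `z`. -/
theorem exists_sylow : ∃ T : Sylow 2 G, J ≤ (T : Subgroup G) ∧ (T : Subgroup G) ≤ Subgroup.centralizer ({z} : Set G) := by
  haveI : Fact (Nat.Prime 2) := ⟨Nat.prime_two⟩
  obtain ⟨Q, hQ⟩ := IsPGroup.exists_le_sylow (G := ↥(Subgroup.centralizer ({z} : Set G)))
    (P := J.subgroupOf _) (IsPGroup.of_card (p := 2) (n := 10) (by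
      rw [Nat.card_congr (Subgroup.subgroupOfEquivOfLe h.J_cent).toEquiv, h.card_J]; rfl))
  set R := (Q : Subgroup _).map (Subgroup.centralizer ({z} : Set G)).subtype with hR
  have hRC : R ≤ Subgroup.centralizer ({z} : Set G) := Subgroup.map_subtype_le _
  have hJR : J ≤ R := fun j hj => ⟨⟨j, h.J_cent hj⟩, hQ (Subgroup.mem_subgroupOf.2 hj), rfl⟩
  obtain ⟨T, hT⟩ := IsPGroup.exists_le_sylow (G := G) (P := R) (Q.isPGroup'.map _)
  refine ⟨T, hJR.trans hT, ?_⟩
  suffices hTR : (T : Subgroup G) ≤ R from hTR.trans hRC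
  by_contra hnot
  haveI := T.isPGroup'.isNilpotent
  have hlt : R.subgroupOf (T : Subgroup G) < ⊤ :=
    lt_top_iff_ne_top.2 fun e => hnot (Subgroup.subgroupOf_eq_top.1 e)
  obtain ⟨g, hg, hgR⟩ := SetLike.exists_of_lt (Group.normalizerCondition_of_isNilpotent _ hlt)
  have hgz : (g : G) * z = z * g := by
    refine h.conj_of_cent fun j hj => ?_
    have hm := Subgroup.mem_subgroupOf.1 ((Subgroup.mem_normalizer_iff''.1 hg ⟨j, hT (hJR hj)⟩).1
      (Subgroup.mem_subgroupOf.2 (hJR hj)))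
    have h1 := Subgroup.mem_centralizer_singleton_iff.1 (hRC hm)
    change (g : G)⁻¹ * j * g * z = z * ((g : G)⁻¹ * j * g) at h1
    calc (g : G) * z * (g : G)⁻¹ * j = g * (z * ((g : G)⁻¹ * j * g)) * (g : G)⁻¹ := by group
      _ = _ := by rw [← h1]; group
  apply hgR
  have hT' : IsPGroup 2 ↥((T : Subgroup G).subgroupOf (Subgroup.centralizer ({z} : Set G))) :=
    T.isPGroup'.comap_of_injective _ Subtype.val_injective
  have hQT : (Q : Subgroup _) ≤ (T : Subgroup G).subgroupOf (Subgroup.centralizer ({z} : Set G)) := fun q hq =>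
    Subgroup.mem_subgroupOf.2 (hT ⟨q, hq, rfl⟩)
  have : (⟨g, Subgroup.mem_centralizer_singleton_iff.2 hgz⟩ : ↥(Subgroup.centralizer ({z} : Set G))) ∈
      (Q : Subgroup _) := by
    rw [← Q.is_maximal' hT' hQT]
    exact Subgroup.mem_subgroupOf.2 g.2
  exact ⟨_, this, rfl⟩

/-- `a` and `z * a` are not conjugate when the centraliser fixes `a`. -/
theorem not_conj (hfix : ∀ c : G, c * z = z * c → c * a = a * c) (g : G) : g * a * g⁻¹ ≠ z * a := by
  intro e
  haveI : Fact (Nat.Prime 2) := ⟨Nat.prime_two⟩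
  obtain ⟨T, hJT, hTz⟩ := h.exists_sylow
  set C := Subgroup.centralizer ({z * a} : Set G) with hC
  have hT1 : (T : Subgroup G) ≤ C := fun t ht => by
    have htz := Subgroup.mem_centralizer_singleton_iff.1 (hTz ht)
    exact Subgroup.mem_centralizer_singleton_iff.2 (by rw [← mul_assoc, htz, mul_assoc, hfix t htz, ← mul_assoc])
  have hT2 : ((g • T : Sylow 2 G) : Subgroup G) ≤ C := by
    rintro _ ⟨t, ht, rfl⟩
    have htz := Subgroup.mem_centralizer_singleton_iff.1 (hTz ht)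
    refine Subgroup.mem_centralizer_singleton_iff.2 ?_
    show g * t * g⁻¹ * (z * a) = z * a * (g * t * g⁻¹)
    rw [← e, show g * t * g⁻¹ * (g * a * g⁻¹) = g * (t * a) * g⁻¹ by group, hfix t htz]
    group
  obtain ⟨l, hl⟩ := MulAction.exists_smul_eq ↥C ((g • T).subtype hT2) (T.subtype hT1)
  have hlg : (l : G) * g * z = z * ((l : G) * g) := by
    refine h.conj_of_cent fun j hj => ?_
    have hj' : (⟨j, hT1 (hJT hj)⟩ : ↥C) ∈ ((T.subtype hT1 : Sylow 2 ↥C) : Subgroup ↥C) := hJT hj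
    rw [← hl] at hj'
    obtain ⟨u, hu, eu⟩ := hj'
    obtain ⟨t, ht, et⟩ : (u : G) ∈ ((g • T : Sylow 2 G) : Subgroup G) := hu
    have e1 : (l : G) * (u : G) * (l : G)⁻¹ = j := congrArg Subtype.val eu
    have e2 : g * t * g⁻¹ = (u : G) := et
    have htz := Subgroup.mem_centralizer_singleton_iff.1 (hTz ht)
    rw [← e1, ← e2]
    calc (l : G) * g * z * ((l : G) * g)⁻¹ * ((l : G) * (g * t * g⁻¹) * (l : G)⁻¹) =
        (l : G) * g * (z * t) * ((l : G) * g)⁻¹ := by group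
      _ = _ := by rw [← htz]; group
  have h1 := hfix _ hlg
  apply h.z_ne
  have hlza := Subgroup.mem_centralizer_singleton_iff.1 l.2
  have : (l : G) * g * a * ((l : G) * g)⁻¹ = z * a := by
    rw [show (l : G) * g * a * ((l : G) * g)⁻¹ = (l : G) * (g * a * g⁻¹) * (l : G)⁻¹ by group, e, hlza,
      mul_inv_cancel_right]
  rw [h1, mul_inv_cancel_right] at this
  exact mul_eq_right.1 this.symm

/-- The partner is outside the centre. -/
theorem partner_not_inZ {g : G} (hy : g * z * g⁻¹ * z = z * (g * z * g⁻¹)) (hne : g * z * g⁻¹ ≠ z) :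
    ¬ InZ z a (g * a * g⁻¹) := by
  rintro (e | e | e | e)
  · exact h.a_ne (conj_eq_one_iff.1 e)
  · exact h.not_conj_a g⁻¹ (by conv_lhs => rw [← e]
                               group)
  · exact hne (h.split_fix (mul_inv_eq_iff_eq_mul.1 e) hy)
  · by_cases hfix : ∀ c : G, c * z = z * c → c * a = a * c
    · exact h.not_conj hfix g e
    push Not at hfix
    obtain ⟨s, hsz, hsa⟩ := hfix
    have hs : s * a * s⁻¹ = z * a := (h.conj_a hsz).resolve_left fun e' => hsa (mul_inv_eq_iff_eq_mul.1 e')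
    have hl : s⁻¹ * g * a = a * (s⁻¹ * g) := by
      rw [← mul_inv_eq_iff_eq_mul, show s⁻¹ * g * a * (s⁻¹ * g)⁻¹ = s⁻¹ * (g * a * g⁻¹) * s by group, e, ← hs]
      group
    have hsz' : s * z * s⁻¹ = z := mul_inv_eq_iff_eq_mul.2 hsz
    have h1 := h.split_fix hl (by
      calc s⁻¹ * g * z * (s⁻¹ * g)⁻¹ * z = s⁻¹ * (g * z * g⁻¹ * (s * z * s⁻¹)) * s := by group
        _ = s⁻¹ * (s * z * s⁻¹ * (g * z * g⁻¹)) * s := by rw [hsz', hy]
        _ = _ := by group)
    apply hne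
    calc g * z * g⁻¹ = s * (s⁻¹ * g * z * (s⁻¹ * g)⁻¹) * s⁻¹ := by group
      _ = z := by rw [h1, hsz']

/-- No other conjugate of `z` lies in `J`. -/
theorem no_fusion {g : G} (hJ : g * z * g⁻¹ ∈ J) : g * z * g⁻¹ = z := by
  by_contra hne
  have hy := h.J_z _ hJ
  have hxz := h.x_mem hy
  have hxa := h.x_comm_a hy hne
  have hya := h.J_a _ hJ
  have hx2 : g * a * g⁻¹ * (g * a * g⁻¹) = 1 := by
    rw [show g * a * g⁻¹ * (g * a * g⁻¹) = g * (a * a) * g⁻¹ by group, h.aa]; group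
  set y := g * z * g⁻¹ with hydef
  have y2 : y * y = 1 := h.conj_z_sq g
  set x := g * a * g⁻¹ with hxdef
  have hperm : ∀ c, c * y = y * c → c * x * c⁻¹ = x ∨ c * x * c⁻¹ = y * x := by
    intro c hc
    have h2 : c * x * c⁻¹ = g * (g⁻¹ * c * g * a * (g⁻¹ * c * g)⁻¹) * g⁻¹ := by rw [hxdef]; group
    rcases h.conj_a (h.back hc) with e | e
    · exact Or.inl (by rw [h2, e])
    · exact Or.inr (by rw [h2, e, hydef, hxdef]; group)
  have hxJ : x ∈ J := by
    by_cases hall : ∀ l ∈ J, l * y = y * l → l * x = x * l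
    · exact h.transvection hJ y2 hxz hxa hall
    push Not at hall
    obtain ⟨l, hl, hly, hlx⟩ := hall
    have hxK : x ∈ K := by
      by_contra hxK
      have hl' := h.back hly
      by_cases hlK : g⁻¹ * l * g ∈ K
      · apply hlx
        have := h.K_a _ hlK
        calc l * x = g * (g⁻¹ * l * g * a) * g⁻¹ := by rw [hxdef]; group
          _ = _ := by rw [this, hxdef]; group
      · have h1 := h.K_a _ (h.K_par _ _ hxz hl' hxK hlK)
        have h2 : g⁻¹ * l * g * a = a * (g⁻¹ * l * g) := by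
          refine mul_left_cancel (a := x) ?_
          rw [← mul_assoc, h1, ← mul_assoc, ← hxa, mul_assoc]
        apply hlx
        calc l * x = g * (g⁻¹ * l * g * a) * g⁻¹ := by rw [hxdef]; group
          _ = _ := by rw [h2, hxdef]; group
    by_contra hxJ
    obtain ⟨x₁, hx₁, e₁, he₁, hye⟩ := h.span _ hJ
    obtain ⟨d, hdK, hdJ, hd5, hde⟩ := h.five e₁ he₁
    have hdz := h.K_z d hdK
    have hdx := ((h.X_iff x₁).1 hx₁).2 d hdK
    set ζ := y⁻¹ * (d * y * d⁻¹) with hζdef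
    have hζ : InZ z a ζ := by
      have e : ζ = e₁⁻¹ * (x₁⁻¹ * (d * x₁ * d⁻¹ * x₁⁻¹) * x₁) * (d * e₁ * d⁻¹ * e₁⁻¹) * e₁ := by
        rw [hζdef, hye]; group
      rw [e, mul_assoc x₁⁻¹, ← h.inZ_J_comm hdx (h.X_le hx₁), inv_mul_cancel_left,
        mul_assoc (e₁⁻¹ * _), ← h.inZ_J_comm hde (h.W_le he₁), mul_assoc e₁⁻¹, ← mul_assoc _ e₁,
        ← h.inZ_J_comm hdx (h.W_le he₁), mul_assoc e₁, inv_mul_cancel_left]
      exact h.inZ_mul hdx hde
    have e1 : d * y * d⁻¹ = y * ζ := by rw [hζdef, mul_inv_cancel_left]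
    have e2 := conj_pow_translate e1 (mul_inv_eq_iff_eq_mul.2 (h.inZ_comm hζ hdz (h.K_a d hdK))) 5
    rw [hd5, one_mul, inv_one, mul_one, odd_pow_cases (h.inZ_sq hζ) (by decide : Odd 5)] at e2
    have hdy : d * y = y * d := mul_inv_eq_iff_eq_mul.1 (e1.trans e2.symm)
    have hdx' : d * x * d⁻¹ = x := by
      rcases hperm d hdy with e | e
      · exact e
      · have hyx : y * x = x * y := by
          calc y * x = g * (z * a) * g⁻¹ := by rw [hydef, hxdef]; group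
            _ = g * (a * z) * g⁻¹ := by rw [h.za]
            _ = x * y := by rw [hydef, hxdef]; group
        have e3 := conj_pow_translate (p := d) (x := x) (c := y) (by rw [e, hyx]) (mul_inv_eq_iff_eq_mul.2 hdy) 5
        rw [hd5, one_mul, inv_one, mul_one, odd_pow_cases y2 (by decide : Odd 5)] at e3
        exact absurd (mul_eq_left.1 e3.symm) fun e' => h.z_ne (conj_eq_one_iff.1 e')
    exact h.noTen x hxK hxJ (by rw [hx2]; exact one_mem _) d hdK hdJ hd5 (by rw [hdx', mul_inv_cancel]; exact one_mem _)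
  rcases h.eq_of_cent hxJ hJ (fun l hl => h.pullback hy hxz hl) with e | e
  · exact hne (h.conj_eq_of_inZ e)
  · have e' : x * y = g * (z * a) * g⁻¹ := by rw [hxdef, hydef, ← h.za]; group
    exact h.swap.partner_not_inZ hy hne (h.inZ_swap.2 (e' ▸ e))

/-- The partner of another conjugate is outside `J`. -/
theorem partner_not_mem {g : G} (hy : g * z * g⁻¹ * z = z * (g * z * g⁻¹)) (hne : g * z * g⁻¹ ≠ z) :
    g * a * g⁻¹ ∉ J := by
  intro hxJ
  refine hne (h.no_fusion ?_)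
  have hx2 : g * a * g⁻¹ * (g * a * g⁻¹) = 1 := by
    rw [show g * a * g⁻¹ * (g * a * g⁻¹) = g * (a * a) * g⁻¹ by group, h.aa]; group
  exact h.transvection hxJ hx2 hy (h.fix_conj hy) fun l hl => h.pullback hy (h.x_mem hy) hl

end Data

end CfsgLib.Recognition.USixCentral.Plane
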