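import Cfsg.Agent.Lib.Recognition.USixCentral.Plane.Inner
import Cfsg.Agent.Lib.Fusion.Basic
import Cfsg.Agent.Lib.Recognition.USixTwoOuter.Isolated

/-!
# In the branch with an invariant plane the involution is isolated

The involutions of `J ∩ O²(G)` die in every abelian 2-quotient of the centraliser in `O²(G)`, so `O²(G)` meets the
plane in the centre of `J`; hence a commuting conjugate centralises a quaternion group, which the centraliser does not
allow.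
-/

set_option autoImplicit false
set_option linter.unusedSectionVars false
set_option linter.style.haveILetI false

namespace CfsgLib.Recognition.USixCentral.Plane

open CfsgLib.Recognition.USixCentral (transfer_extremal_of_odd)

variable {G : Type*} [Group G] [Finite G]

namespace Data

variable {z a : G} {J X W K P : Subgroup G} (h : Data z a J X W K P)
include h

theorem W_norm {c : G} (hc : c * z = z * c) {e : G} (he : e ∈ W) : c * e * c⁻¹ ∈ W := by
  refine (h.W_iff _).2 ⟨h.norm c hc e (h.W_le he), fun x hx => ?_⟩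
  have h1 := h.X_norm (Commute.inv_left hc).eq hx
  rw [inv_inv] at h1
  calc c * e * c⁻¹ * x = c * (e * (c⁻¹ * x * c)) * c⁻¹ := by group
    _ = c * (c⁻¹ * x * c * e) * c⁻¹ := by rw [h.XW h1 he]
    _ = _ := by group

/-- An element centralising `c` centralises its commutator with an element of `J`. -/
theorem comm_diff {l c u : G} (hl : l ∈ J) (hu : u ∈ J) (hlc : l * c = c * l) (hcz : c * z = z * c) :
    l * (c * u * c⁻¹ * u⁻¹) = c * u * c⁻¹ * u⁻¹ * l := by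
  have hlc' : l * c⁻¹ = c⁻¹ * l := (Commute.inv_right (hlc : Commute l c)).eq
  rcases h.comm l hl u hu with e | e
  · have e' : l * u⁻¹ = u⁻¹ * l := (Commute.inv_right (e : Commute l u)).eq
    calc l * (c * u * c⁻¹ * u⁻¹) = l * c * u * c⁻¹ * u⁻¹ := by group
      _ = c * (l * u) * c⁻¹ * u⁻¹ := by rw [hlc]; group
      _ = c * u * (l * c⁻¹) * u⁻¹ := by rw [e]; group
      _ = c * u * c⁻¹ * (l * u⁻¹) := by rw [hlc']; group
      _ = _ := by rw [e']; group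
  · have hzu := h.J_z u hu
    have e1 : l * (c * u * c⁻¹) = z * (c * u * c⁻¹ * l) := by
      calc l * (c * u * c⁻¹) = l * c * u * c⁻¹ := by group
        _ = c * (l * u) * c⁻¹ := by rw [hlc]; group
        _ = c * z * u * (l * c⁻¹) := by rw [e]; group
        _ = _ := by rw [hcz, hlc']; group
    have e2 : l * u⁻¹ = z⁻¹ * (u⁻¹ * l) := by
      rw [eq_inv_mul_iff_mul_eq]
      calc z * (l * u⁻¹) = u⁻¹ * (u * z) * (l * u⁻¹) := by group
        _ = u⁻¹ * (z * (u * l)) * u⁻¹ := by rw [hzu]; group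
        _ = u⁻¹ * l := by rw [← e]; group
    have hm : c * u * c⁻¹ * z⁻¹ = z⁻¹ * (c * u * c⁻¹) :=
      (Commute.inv_right (show Commute (c * u * c⁻¹) z from h.J_z _ (h.norm c hcz u hu))).eq
    calc l * (c * u * c⁻¹ * u⁻¹) = l * (c * u * c⁻¹) * u⁻¹ := by group
      _ = z * (c * u * c⁻¹) * (l * u⁻¹) := by rw [e1]; group
      _ = z * (c * u * c⁻¹ * z⁻¹) * (u⁻¹ * l) := by rw [e2]; group
      _ = _ := by rw [hm]; group

/-- An involution of `K` centralising the centraliser in `W` of an element of `J` lies in `J`. -/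
theorem hyper {t : G} (ht : t ∈ J) {y : G} (hyK : y ∈ K) (hy2 : y * y = 1)
    (hfix : ∀ e ∈ W, e * t = t * e → e * y = y * e) : y ∈ J := by
  by_contra hyJ
  obtain ⟨x, hx, e0, he0, rfl⟩ := h.span t ht
  have he0J := h.W_le he0
  have hiff : ∀ e ∈ W, e * (x * e0) = x * e0 * e ↔ e * e0 = e0 * e := fun e he => by
    rw [← mul_assoc, h.XW hx he, mul_assoc, mul_assoc, mul_right_inj]
  obtain ⟨d, hdK, hdJ, hd5, hde⟩ := h.five e0 he0
  have hdz := h.K_z d hdK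
  -- the elements with the same fixed elements
  set y' := d * y * d⁻¹ with hy'
  have hy'K : y' ∈ K := mul_mem (mul_mem hdK hyK) (inv_mem hdK)
  have hy'J : y' ∉ J := fun e => hyJ (by
    have := h.norm d⁻¹ (Commute.inv_left hdz).eq _ e
    rwa [hy', show d⁻¹ * (d * y * d⁻¹) * d⁻¹⁻¹ = y by group] at this)
  have hfix' : ∀ e ∈ W, e * e0 = e0 * e → e * y' = y' * e := by
    intro e he hee
    have he' : d⁻¹ * e * d ∈ W := by simpa using h.W_norm (Commute.inv_left hdz).eq he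
    obtain ⟨ζ, hζZ, e1⟩ : ∃ ζ, InZ z a ζ ∧ d * e0 * d⁻¹ = ζ * e0 := ⟨_, hde, by group⟩
    have hcm : e * (d * e0 * d⁻¹) = d * e0 * d⁻¹ * e := by
      rw [e1, ← mul_assoc, h.inZ_J_comm hζZ (h.W_le he), mul_assoc, hee, mul_assoc]
    have h1 := hfix _ he' ((hiff _ he').2 (by
      calc d⁻¹ * e * d * e0 = d⁻¹ * (e * (d * e0 * d⁻¹)) * d := by group
        _ = _ := by rw [hcm]; group))
    calc e * y' = d * (d⁻¹ * e * d * y) * d⁻¹ := by rw [hy']; group
      _ = _ := by rw [h1, hy']; group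
  -- both move every other element by `e0`
  have key : ∀ u ∈ K, u ∉ J → (∀ e ∈ W, e * e0 = e0 * e → e * u = u * e) → ∀ e ∈ W, e * e0 ≠ e0 * e →
      ∀ m, m = u * e * u⁻¹ * e⁻¹ → InZ z a (e0 * m) ∧ m * e0 = e0 * m ∧ m ∈ W := by
    intro u hu huJ hf e he hne m hm
    have huz := h.K_z u hu
    have hmW : m ∈ W := hm ▸ mul_mem (h.W_norm huz he) (inv_mem he)
    have hnest : ∀ l ∈ J, l * e0 = e0 * l → l * m = m * l := by
      intro l hl hle
      obtain ⟨x', hx', e', he', rfl⟩ := h.span l hl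
      have hee : e' * e0 = e0 * e' := by
        rw [mul_assoc, ← mul_assoc e0, h.XW hx' he0, mul_assoc] at hle
        exact mul_left_cancel hle
      have hem : e' * m = m * e' := by
        rw [hm]; exact h.comm_diff (h.W_le he') (h.W_le he) (hf e' he' hee) huz
      rw [mul_assoc, hem, ← mul_assoc, ← h.XW hx' hmW, mul_assoc]
    rcases h.eq_of_cent he0J (h.W_le hmW) hnest with hmZ | hmZ
    · exfalso
      refine huJ (h.faith u hu fun f hf' => ?_)
      by_cases hfe : f * e0 = e0 * f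
      · rw [← hf f hf' hfe, mul_inv_cancel_right, mul_inv_cancel]
        exact Or.inl rfl
      have hfe' : f * e⁻¹ * e0 = e0 * (f * e⁻¹) := by
        have h1 := (h.comm f (h.W_le hf') e0 he0J).resolve_left hfe
        have h2 := (h.comm e (h.W_le he) e0 he0J).resolve_left hne
        have h3 : e⁻¹ * e0 = z * (e0 * e⁻¹) := by
          rw [inv_mul_eq_iff_eq_mul, ← mul_assoc, h.J_z e (h.W_le he), mul_assoc z, ← mul_assoc e, h2,
            mul_assoc z (e0 * e), mul_inv_cancel_right, ← mul_assoc, h.zz, one_mul]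
        calc f * e⁻¹ * e0 = f * z * (e0 * e⁻¹) := by rw [mul_assoc, h3, mul_assoc f z]
          _ = z * (f * e0) * e⁻¹ := by rw [h.J_z f (h.W_le hf')]; group
          _ = _ := by rw [h1, ← mul_assoc z z, h.zz, one_mul, mul_assoc]
      have h4 := hf _ (mul_mem hf' (inv_mem he)) hfe'
      have : u * f * u⁻¹ * f⁻¹ = f * e⁻¹ * m * (f * e⁻¹)⁻¹ := by
        calc u * f * u⁻¹ * f⁻¹ = u * (f * e⁻¹) * (e * u⁻¹) * f⁻¹ := by group
          _ = f * e⁻¹ * u * (e * u⁻¹) * f⁻¹ := by rw [← h4]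
          _ = _ := by rw [hm]; group
      rw [this, h.inZ_J_comm hmZ (mul_mem (h.W_le hf') (inv_mem (h.W_le he))), mul_inv_cancel_right]
      exact hmZ
    · refine ⟨hmZ, ?_, hmW⟩
      have h1 := h.inZ_J_comm hmZ he0J
      rw [mul_assoc e0 m] at h1
      exact (mul_left_cancel h1).symm
  -- so their quotient fixes everything modulo the centre
  refine h.noTen y hyK hyJ (by rw [hy2]; exact one_mem _) d hdK hdJ hd5 ?_
  rw [show d * y * d⁻¹ = y' from hy'.symm]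
  refine h.faith _ (mul_mem hy'K (inv_mem hyK)) fun e he => ?_
  rw [inv_eq_of_mul_eq_one_right hy2]
  by_cases hee : e * e0 = e0 * e
  · have h1 : y * e * y⁻¹ = e := by rw [← hfix e he ((hiff e he).2 hee), mul_inv_cancel_right]
    rw [show y' * y * e * (y' * y)⁻¹ = y' * (y * e * y⁻¹) * y'⁻¹ by group, h1, ← hfix' e he hee,
      mul_inv_cancel_right, mul_inv_cancel]
    exact Or.inl rfl
  obtain ⟨hm, hmc, hmW⟩ := key y hyK hyJ (fun e he hee => hfix e he ((hiff e he).2 hee)) e he hee _ rfl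
  obtain ⟨hm', -, -⟩ := key y' hy'K hy'J hfix' e he hee _ rfl
  set m := y * e * y⁻¹ * e⁻¹ with hmdef
  set m' := y' * e * y'⁻¹ * e⁻¹ with hm'def
  have e1 : y' * m * y'⁻¹ = m := by rw [← hfix' m hmW hmc, mul_inv_cancel_right]
  have e2 : y' * y * e * (y' * y)⁻¹ * e⁻¹ = m * m' := by
    calc y' * y * e * (y' * y)⁻¹ * e⁻¹ = y' * m * y'⁻¹ * m' := by rw [hmdef, hm'def]; group
      _ = _ := by rw [e1]
  rw [e2]
  have hsq : InZ z a (e0 * e0)⁻¹ := h.inZ_inv (by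
    rcases h.sq e0 he0J with e' | e' <;> rw [e']
    · exact Or.inl rfl
    · exact Or.inr (Or.inl rfl))
  have h3 := h.inZ_mul hsq (h.inZ_mul hm hm')
  rwa [show (e0 * e0)⁻¹ * (e0 * m * (e0 * m')) = m * m' by
    rw [show e0 * m * (e0 * m') = e0 * (m * e0) * m' by group, hmc]; group] at h3

theorem P_res : P ≤ Cfsg.pResidual 2 G := by
  rw [h.P_def]
  exact (Subgroup.closure_le _).2 fun g hg =>
    CfsgLib.Fusion.Basic.mem_pResidual_of_coprime (Nat.coprime_two_right.2 hg.2)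

theorem z_res : z ∈ Cfsg.pResidual 2 G := h.P_res h.z_P

/-- Conjugates of an involution of `J ∩ O²(G)` with centraliser in the centraliser of `z`. -/
theorem extremal {t g : G} (ht : t ∈ J)
    (hR : ∀ r ∈ J, r ∈ Cfsg.pResidual 2 G → r * t = t * r → g⁻¹ * r * g * z = z * (g⁻¹ * r * g)) :
    g * z = z * g := by
  have hcomm : ∀ r ∈ J, r ∈ Cfsg.pResidual 2 G → r * t = t * r → r * (g * z * g⁻¹) = g * z * g⁻¹ * r := by
    intro r hr hr' hrt
    have h1 := hR r hr hr' hrt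
    calc r * (g * z * g⁻¹) = g * (g⁻¹ * r * g * z) * g⁻¹ := by group
      _ = _ := by rw [h1]; group
  have hy : g * z * g⁻¹ * z = z * (g * z * g⁻¹) := (hcomm z h.zJ h.z_res (h.J_z t ht).symm).symm
  have hy2 := h.conj_z_sq g
  have hJ : g * z * g⁻¹ ∈ J := h.hyper ht (h.inner hy) hy2 fun e he het => by
    obtain ⟨p, hp, hc⟩ := h.W_gen e he
    have hpJ : p ∈ J := by
      rw [show p = e * (p⁻¹ * e)⁻¹ by group]
      exact mul_mem (h.W_le he) (inv_mem (h.inZ_J hc))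
    have hcy : p⁻¹ * e * (g * z * g⁻¹) = g * z * g⁻¹ * (p⁻¹ * e) := (h.inZ_comm hc hy (h.fix_conj hy)).symm
    have hpt : p * t = t * p := by
      calc p * t = e * ((p⁻¹ * e)⁻¹ * t) := by group
        _ = e * (t * (p⁻¹ * e)⁻¹) := by rw [h.inZ_J_comm (h.inZ_inv hc) ht]
        _ = e * t * (p⁻¹ * e)⁻¹ := by group
        _ = _ := by rw [het]; group
    have hpy := hcomm p hpJ (h.P_res hp) hpt
    calc e * (g * z * g⁻¹) = p * (p⁻¹ * e * (g * z * g⁻¹)) := by group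
      _ = p * (g * z * g⁻¹) * (p⁻¹ * e) := by rw [hcy]; group
      _ = _ := by rw [hpy]; group
  exact mul_inv_eq_iff_eq_mul.1 (h.no_fusion hJ)

theorem exists_sylow_odd :
    ((Subgroup.centralizer ({z} : Set G)).subgroupOf (Cfsg.pResidual 2 G)).index % 2 = 1 := by
  haveI : Fact (Nat.Prime 2) := ⟨Nat.prime_two⟩
  obtain ⟨T, -, hTz⟩ := h.exists_sylow
  refine Nat.two_dvd_ne_zero.1 fun hd => CfsgLib.Fusion.Basic.not_dvd_relIndex_of_normal T (Cfsg.pResidual 2 G)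
    (hd.trans ?_)
  exact Subgroup.relIndex_dvd_of_le_left _ (inf_le_left.trans hTz)

/-- The involutions of `J ∩ O²(G)` die in abelian 2-quotients of the centraliser in `O²(G)`. -/
theorem dies {A : Type*} [CommGroup A] (hA : IsPGroup 2 A)
    (φ : ↥((Subgroup.centralizer ({z} : Set G)).subgroupOf (Cfsg.pResidual 2 G)) →* A) {t : G} (ht : t ∈ J)
    (ht2 : t * t = 1) (htG : t ∈ Cfsg.pResidual 2 G) :
    φ ⟨⟨t, htG⟩, Subgroup.mem_subgroupOf.2 (h.J_cent ht)⟩ = 1 := by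
  classical
  haveI : Fact (Nat.Prime 2) := ⟨Nat.prime_two⟩
  set T : ↥(Cfsg.pResidual 2 G) := ⟨t, htG⟩ with hT
  set α := φ ⟨T, Subgroup.mem_subgroupOf.2 (h.J_cent ht)⟩ with hα
  let R : Subgroup ↥(Cfsg.pResidual 2 G) :=
    (J ⊓ Subgroup.centralizer ({t} : Set G)).subgroupOf (Cfsg.pResidual 2 G)
  have hR2 : IsPGroup 2 R :=
    ((IsPGroup.of_card (p := 2) (n := 10) (show Nat.card J = 2 ^ 10 by rw [h.card_J]; rfl)).to_le
      inf_le_left).comap_of_injective (Cfsg.pResidual 2 G).subtype Subtype.val_injective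
  have hT2 : T * T = 1 := Subtype.ext ht2
  have hα2 : α ^ 2 = 1 := by
    rw [hα, ← map_pow, show (⟨T, Subgroup.mem_subgroupOf.2 (h.J_cent ht)⟩ :
      ↥((Subgroup.centralizer ({z} : Set G)).subgroupOf (Cfsg.pResidual 2 G))) ^ 2 = 1 from Subtype.ext (by
      show T ^ 2 = 1
      rw [pow_two, hT2]), map_one]
  have hV := transfer_extremal_of_odd h.exists_sylow_odd φ hT2 hα2 hR2 (R := R)
    (Subgroup.mem_subgroupOf.2 ⟨ht, Subgroup.mem_centralizer_singleton_iff.2 rfl⟩)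
    (fun r hr => Subtype.ext (Subgroup.mem_centralizer_singleton_iff.1 (Subgroup.mem_subgroupOf.1 hr).2))
    (fun g hg hm => by
      have hgz : (g : G) * z = z * g := h.extremal (t := t) ht fun r hr hr' hrt =>
        Subgroup.mem_centralizer_singleton_iff.1 (Subgroup.mem_subgroupOf.1
          (hg ⟨r, hr'⟩ (Subgroup.mem_subgroupOf.2 ⟨hr, Subgroup.mem_centralizer_singleton_iff.2 hrt⟩)))
      set γ : ↥((Subgroup.centralizer ({z} : Set G)).subgroupOf (Cfsg.pResidual 2 G)) :=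
        ⟨g, Subgroup.mem_subgroupOf.2 (Subgroup.mem_centralizer_singleton_iff.2 hgz)⟩
      rw [show (⟨g⁻¹ * T * g, hm⟩ : ↥((Subgroup.centralizer ({z} : Set G)).subgroupOf (Cfsg.pResidual 2 G))) =
        γ⁻¹ * ⟨T, Subgroup.mem_subgroupOf.2 (h.J_cent ht)⟩ * γ from Subtype.ext rfl, map_mul, map_mul, map_inv,
        mul_comm (φ γ)⁻¹, inv_mul_cancel_right])
  rw [← hV]
  have := CfsgLib.Fusion.Basic.pResidual_le_ker (p := 2) (MonoidHom.transfer φ) hA
  rw [CfsgLib.Fusion.Basic.pResidual_pResidual] at this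
  exact MonoidHom.mem_ker.1 (this (Subgroup.mem_top T))

/-- An element of `K ∩ O²(G)` is an element of `P` times an element of `X ∩ O²(G)`. -/
theorem res_split {k : G} (hk : k ∈ K) (hkG : k ∈ Cfsg.pResidual 2 G) :
    ∃ p ∈ P, ∃ b ∈ X, b ∈ Cfsg.pResidual 2 G ∧ k = p * b := by
  obtain ⟨p, hp, x, hx, e, he, rfl⟩ := h.K_split hk
  obtain ⟨q, hq, hc⟩ := h.W_gen e he
  have e1 : p * (x * e) = p * q * (x * (q⁻¹ * e)) := by
    calc p * (x * e) = p * (x * q) * (q⁻¹ * e) := by group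
      _ = p * (q * x) * (q⁻¹ * e) := by rw [(h.P_cent hq).2 x hx]
      _ = _ := by group
  refine ⟨p * q, mul_mem hp hq, x * (q⁻¹ * e), mul_mem hx (h.inZ_mem hc), ?_, e1⟩
  rw [show x * (q⁻¹ * e) = (p * q)⁻¹ * (p * (x * e)) by rw [e1, inv_mul_cancel_left]]
  exact mul_mem (inv_mem (h.P_res (mul_mem hp hq))) hkG

/-- `O²(G)` meets the plane in the centre of `J`. -/
theorem res_plane {b : G} (hbX : b ∈ X) (hbG : b ∈ Cfsg.pResidual 2 G) : InZ z a b := by
  classical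
  haveI : Fact (Nat.Prime 2) := ⟨Nat.prime_two⟩
  by_contra hbn
  set R := Cfsg.pResidual 2 G with hRdef
  -- the proper invariant subgroup
  obtain ⟨B, hBX, hZB, hcomm, b₀, hb₀, hb₀G, hb₀B⟩ : ∃ B : Subgroup G, B ≤ X ∧ (∀ c, InZ z a c → c ∈ B) ∧
      (∀ c, c * z = z * c → c ∈ R → ∀ x ∈ X, x ∈ R → c * x * c⁻¹ * x⁻¹ ∈ B) ∧
      ∃ b₀ ∈ X, b₀ ∈ R ∧ b₀ ∉ B := by
    by_cases hall : ∀ c, c * z = z * c → c ∈ R → ∀ x ∈ X, x ∈ R → InZ z a (c * x * c⁻¹ * x⁻¹)
    · exact ⟨{ carrier := {c | InZ z a c}, one_mem' := Or.inl rfl, mul_mem' := h.inZ_mul, inv_mem' := h.inZ_inv },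
        fun c hc => h.inZ_mem hc, fun c hc => hc, hall, b, hbX, hbG, hbn⟩
    push Not at hall
    obtain ⟨c₀, hc₀z, hc₀R, x₀, hx₀, hx₀R, hx₀n⟩ := hall
    let B : Subgroup G :=
      { carrier := {x | x ∈ X ∧ InZ z a (c₀ * x * c₀⁻¹ * x⁻¹)}
        one_mem' := ⟨one_mem _, by rw [mul_one, mul_inv_cancel, one_mul, inv_one]; exact Or.inl rfl⟩
        mul_mem' := fun {x y} hx hy => ⟨mul_mem hx.1 hy.1, by
          rw [show c₀ * (x * y) * c₀⁻¹ * (x * y)⁻¹ = c₀ * x * c₀⁻¹ * (c₀ * y * c₀⁻¹ * y⁻¹) * x⁻¹ by group,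
            h.inZ_J_comm hy.2 (h.norm c₀ hc₀z x (h.X_le hx.1)), mul_assoc]
          exact h.inZ_mul hy.2 hx.2⟩
        inv_mem' := fun {x} hx => ⟨inv_mem hx.1, by
          have h1 := h.inZ_inv hx.2
          rw [show c₀ * x⁻¹ * c₀⁻¹ * x⁻¹⁻¹ = x⁻¹ * (c₀ * x * c₀⁻¹ * x⁻¹)⁻¹ * x by group,
            h.inZ_J_comm h1 (inv_mem (h.X_le hx.1)), inv_mul_cancel_right]
          exact h1⟩ }
    refine ⟨B, fun x hx => hx.1, fun c hc => ⟨h.inZ_mem hc, ?_⟩, fun c hcz hcR x hx hxR => ?_, x₀, hx₀, hx₀R,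
      fun e => hx₀n e.2⟩
    · exact h.inZ_mul (h.conj_inZ hc₀z hc) (h.inZ_inv hc)
    refine ⟨mul_mem (h.X_norm hcz hx) (inv_mem hx), ?_⟩
    set u := c * x * c⁻¹ * x⁻¹ with hu
    have hKX : ∀ k ∈ K, ∀ w ∈ X, InZ z a (k * w * k⁻¹ * w⁻¹) := fun k hk w hw => ((h.X_iff w).1 hw).2 k hk
    have huX : u ∈ X := mul_mem (h.X_norm hcz hx) (inv_mem hx)
    by_cases hcK : c ∈ K
    · exact h.inZ_mul (h.conj_inZ hc₀z (hKX c hcK x hx)) (h.inZ_inv (hKX c hcK x hx))
    have hc₀K : c₀ ∉ K := fun e => hx₀n (hKX c₀ e x₀ hx₀)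
    have hk := h.K_par c₀ c hc₀z hcz hc₀K hcK
    set x' := c * x * c⁻¹ with hx'
    have hxm : x * x'⁻¹ ∈ J := mul_mem (h.X_le hx) (inv_mem (h.X_le (h.X_norm hcz hx)))
    have h1 : InZ z a (c₀ * x' * c₀⁻¹ * x⁻¹) := by
      have := hKX _ hk x hx
      rwa [show c₀ * c * x * (c₀ * c)⁻¹ * x⁻¹ = c₀ * x' * c₀⁻¹ * x⁻¹ by rw [hx']; group] at this
    have h2 : InZ z a (c₀ * x * c₀⁻¹ * x'⁻¹) := by
      have hm := h.K_par c₀ c⁻¹ hc₀z (Commute.inv_left hcz).eq hc₀K fun e => hcK (inv_inv c ▸ inv_mem e)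
      have := hKX _ hm x' (h.X_norm hcz hx)
      rwa [show c₀ * c⁻¹ * x' * (c₀ * c⁻¹)⁻¹ * x'⁻¹ = c₀ * x * c₀⁻¹ * x'⁻¹ by rw [hx']; group] at this
    -- `u = x' x⁻¹` goes to `x x'⁻¹`
    set ζ₁ := c₀ * x' * c₀⁻¹ * x⁻¹ with hζ₁
    set ζ₂ := c₀ * x * c₀⁻¹ * x'⁻¹ with hζ₂
    have e : c₀ * u * c₀⁻¹ * u⁻¹ = ζ₁ * (x * x'⁻¹) * ζ₂⁻¹ * (x * x'⁻¹) := by
      rw [hζ₁, hζ₂, hu]; group
    have hxx : InZ z a (x * x'⁻¹ * (x * x'⁻¹)) := by
      rcases h.sq _ hxm with e' | e' <;> rw [e']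
      · exact Or.inl rfl
      · exact Or.inr (Or.inl rfl)
    clear_value ζ₁ ζ₂
    rw [e, mul_assoc ζ₁, h.inZ_J_comm (h.inZ_inv h2) hxm,
      mul_assoc, mul_assoc]
    exact h.inZ_mul h1 (h.inZ_mul (h.inZ_inv h2) hxx)
  set H' := (Subgroup.centralizer ({z} : Set G)).subgroupOf R with hH'
  let S : Set G := {k | ∃ p ∈ P, ∃ u ∈ B, k = p * u}
  have hPnorm : ∀ c, c * z = z * c → ∀ p ∈ P, c * p * c⁻¹ ∈ P := by
    intro c hc p hp
    rw [h.P_def] at hp ⊢
    have hmap : (Subgroup.closure {g : G | g ∈ K ∧ Odd (orderOf g)}).map (MulAut.conj c).toMonoidHom ≤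
        Subgroup.closure {g : G | g ∈ K ∧ Odd (orderOf g)} := by
      rw [MonoidHom.map_closure]
      refine Subgroup.closure_mono ?_
      rintro _ ⟨g, hg, rfl⟩
      exact ⟨h.K_norm c hc g hg.1, by rw [MulEquiv.coe_toMonoidHom, MulEquiv.orderOf_eq]; exact hg.2⟩
    exact hmap ⟨p, hp, rfl⟩
  have hBnorm : ∀ c, c * z = z * c → c ∈ R → ∀ u ∈ B, u ∈ R → c * u * c⁻¹ ∈ B := fun c hc hcR u hu huR => by
    have := mul_mem (hcomm c hc hcR u (hBX hu) huR) hu
    rwa [inv_mul_cancel_right] at this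
  have hPu : ∀ {p u}, p ∈ P → u ∈ B → p * u = u * p := fun hp hu => (h.P_cent hp).2 _ (hBX hu)
  let N : Subgroup ↥H' :=
    { carrier := {k | ((k : ↥R) : G) ∈ S}
      one_mem' := ⟨1, one_mem _, 1, one_mem _, (mul_one _).symm⟩
      mul_mem' := by
        rintro k l ⟨p, hp, u, hu, e⟩ ⟨q, hq, v, hv, e'⟩
        refine ⟨p * q, mul_mem hp hq, u * v, mul_mem hu hv, ?_⟩
        show ((k : ↥R) : G) * ((l : ↥R) : G) = _
        rw [e, e', mul_assoc, ← mul_assoc u, ← hPu hq hu]; group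
      inv_mem' := by
        rintro k ⟨p, hp, u, hu, e⟩
        refine ⟨p⁻¹, inv_mem hp, u⁻¹, inv_mem hu, ?_⟩
        show (((k : ↥R) : G))⁻¹ = _
        rw [e, hPu hp hu, mul_inv_rev] }
  haveI hN : N.Normal := ⟨by
    rintro k ⟨p, hp, u, hu, e⟩ c
    have hcz := Subgroup.mem_centralizer_singleton_iff.1 (Subgroup.mem_subgroupOf.1 c.2)
    have huR : u ∈ R := by
      have := mul_mem (inv_mem (h.P_res hp)) (k : ↥R).2
      rwa [e, inv_mul_cancel_left] at this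
    refine ⟨_, hPnorm _ hcz p hp, _, hBnorm _ hcz (c : ↥R).2 u hu huR, ?_⟩
    show ((c : ↥R) : G) * ((k : ↥R) : G) * ((c : ↥R) : G)⁻¹ = _
    rw [e]; group⟩
  have hmk : ∀ k : ↥H', ((k : ↥R) : G) ∈ K → ∃ x : ↥H', ((x : ↥R) : G) ∈ X ∧
      QuotientGroup.mk' N k = QuotientGroup.mk' N x := by
    intro k hk
    obtain ⟨p, hp, u, huX, huR, e⟩ := h.res_split hk (k : ↥R).2
    refine ⟨⟨⟨u, huR⟩, Subgroup.mem_subgroupOf.2 (h.J_cent (h.X_le huX))⟩, huX, QuotientGroup.eq.2 ?_⟩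
    refine ⟨p⁻¹, inv_mem hp, 1, one_mem _, ?_⟩
    show (((k : ↥R) : G))⁻¹ * u = p⁻¹ * 1
    rw [e, (h.P_cent hp).2 u huX, mul_inv_rev, mul_one, mul_assoc, inv_mul_cancel, mul_one]
  have hXc : ∀ x k : ↥H', ((x : ↥R) : G) ∈ X → Commute (QuotientGroup.mk' N x) (QuotientGroup.mk' N k) := by
    intro x k hx
    rw [commute_iff_eq, ← map_mul, ← map_mul]
    refine QuotientGroup.eq.2 ⟨1, one_mem _, _, ?_, (one_mul _).symm⟩
    show (((x : ↥R) : G) * ((k : ↥R) : G))⁻¹ * (((k : ↥R) : G) * ((x : ↥R) : G)) ∈ B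
    have hkz : ((k : ↥R) : G) * z = z * ((k : ↥R) : G) :=
      Subgroup.mem_centralizer_singleton_iff.1 (Subgroup.mem_subgroupOf.1 k.2)
    have h1 := hcomm _ (Commute.inv_left hkz).eq (inv_mem (k : ↥R).2) _ (inv_mem hx) (inv_mem (x : ↥R).2)
    rw [inv_inv, inv_inv] at h1
    rwa [show (((x : ↥R) : G) * ((k : ↥R) : G))⁻¹ * (((k : ↥R) : G) * ((x : ↥R) : G)) =
      ((k : ↥R) : G)⁻¹ * ((x : ↥R) : G)⁻¹ * ((k : ↥R) : G) * ((x : ↥R) : G) by group]
  have hKc : ∀ l m : ↥H', ((l : ↥R) : G) ∈ K → Commute (QuotientGroup.mk' N l) (QuotientGroup.mk' N m) := by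
    intro l m hl
    obtain ⟨x, hx, e⟩ := hmk l hl
    rw [e]
    exact hXc x m hx
  letI instA : CommGroup (↥H' ⧸ N) :=
    { QuotientGroup.Quotient.group _ with
      mul_comm := fun u v => by
        obtain ⟨k, rfl⟩ := QuotientGroup.mk'_surjective _ u
        obtain ⟨l, rfl⟩ := QuotientGroup.mk'_surjective _ v
        change QuotientGroup.mk' N k * QuotientGroup.mk' N l = QuotientGroup.mk' N l * QuotientGroup.mk' N k
        by_cases hk : ((k : ↥R) : G) ∈ K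
        · exact hKc k l hk
        by_cases hl : ((l : ↥R) : G) ∈ K
        · exact (hKc l k hl).symm
        have hkl : ((k * l : ↥H') : ↥R).1 ∈ K := h.K_par _ _
          (Subgroup.mem_centralizer_singleton_iff.1 (Subgroup.mem_subgroupOf.1 k.2))
          (Subgroup.mem_centralizer_singleton_iff.1 (Subgroup.mem_subgroupOf.1 l.2)) hk hl
        have h1 := (hKc _ l hkl).eq
        rw [map_mul, ← mul_assoc (QuotientGroup.mk' N l)] at h1
        exact mul_right_cancel h1 }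
  have hA : IsPGroup 2 (↥H' ⧸ N) := fun u => by
    obtain ⟨k, rfl⟩ := QuotientGroup.mk'_surjective _ u
    have hkK : ((k * k : ↥H') : ↥R).1 ∈ K :=
      h.K_of_sq (Subgroup.mem_centralizer_singleton_iff.1 (Subgroup.mem_subgroupOf.1 k.2))
    obtain ⟨x, hx, e⟩ := hmk _ hkK
    refine ⟨2, ?_⟩
    rw [show (2 : ℕ) ^ 2 = 2 * 2 from rfl, pow_mul, pow_two (QuotientGroup.mk' N k), ← map_mul, e, pow_two, ← map_mul]
    refine (QuotientGroup.eq_one_iff _).2 ⟨1, one_mem _, _, ?_, (one_mul _).symm⟩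
    rcases h.sq _ (h.X_le hx) with e' | e'
    · show ((x : ↥R) : G) * ((x : ↥R) : G) ∈ B
      rw [e']; exact one_mem _
    · show ((x : ↥R) : G) * ((x : ↥R) : G) ∈ B
      rw [e']; exact hZB z (Or.inr (Or.inl rfl))
  obtain ⟨w, hw, hwP, hbw⟩ : ∃ w ∈ W, w ∈ P ∧ b₀ * w * (b₀ * w) = 1 := by
    rcases h.sq b₀ (h.X_le hb₀) with hb2 | hb2
    · exact ⟨1, one_mem _, one_mem _, by rw [mul_one, hb2]⟩
    obtain ⟨w, hw, hwP, hw2⟩ := h.W_four
    refine ⟨w, hw, hwP, ?_⟩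
    calc b₀ * w * (b₀ * w) = b₀ * (w * b₀) * w := by group
      _ = b₀ * b₀ * (w * w) := by rw [h.XW hb₀ hw]; group
      _ = 1 := by rw [hb2, hw2, h.zz]
  have hd := h.dies hA (QuotientGroup.mk' N) (mul_mem (h.X_le hb₀) (h.W_le hw)) hbw (mul_mem hb₀G (h.P_res hwP))
  obtain ⟨p, hp, u, hu, e⟩ := (QuotientGroup.eq_one_iff _).1 hd
  change b₀ * w = p * u at e
  -- an element of `P` and of the plane is central
  have h2 : w⁻¹ * p = b₀ * u⁻¹ := by
    calc w⁻¹ * p = w⁻¹ * (p * u) * u⁻¹ := by group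
      _ = w⁻¹ * (b₀ * w) * u⁻¹ := by rw [e]
      _ = w⁻¹ * (w * b₀) * u⁻¹ := by rw [h.XW hb₀ hw]
      _ = _ := by group
  have hm : b₀ * u⁻¹ ∈ X := mul_mem hb₀ (inv_mem (hBX hu))
  have hW : b₀ * u⁻¹ ∈ W := h2 ▸ h.P_J (mul_mem (inv_mem hwP) hp) (h2.symm ▸ h.X_le hm)
  have hZ : InZ z a (b₀ * u⁻¹) := h.centre _ (h.X_le hm) fun i hi => by
    obtain ⟨x, hx, f, hf, rfl⟩ := h.span i hi
    rw [← mul_assoc, h.XW hx hW, mul_assoc, ← h.XW hm hf, mul_assoc]
  apply hb₀B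
  have := mul_mem (hZB _ hZ) hu
  rwa [inv_mul_cancel_right] at this

/-- The involution is isolated. -/
theorem isolated {g : G} (hy : g * z * g⁻¹ * z = z * (g * z * g⁻¹)) : g * z * g⁻¹ = z := by
  by_contra hne
  have hzn : (Cfsg.pResidual 2 G).Normal := inferInstance
  obtain ⟨p, hp, b, hb, hbG, e⟩ := h.res_split (h.inner hy) (hzn.conj_mem z h.z_res g)
  have hbZ := h.res_plane hb hbG
  have hcent : ∀ x ∈ X, x * (g * z * g⁻¹) = g * z * g⁻¹ * x := fun x hx => by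
    rw [e, ← mul_assoc, ← (h.P_cent hp).2 x hx, mul_assoc, mul_assoc, h.inZ_J_comm hbZ (h.X_le hx)]
  obtain ⟨u, hu, hu2, huy⟩ := h.W_root _ (h.inner hy) (h.conj_z_sq g)
  -- a quaternion pair centralising the conjugate
  obtain ⟨x₁, hx₁, x₂, hx₂, s₁, s₂, hanti, c₁, c₂⟩ : ∃ x₁ ∈ J, ∃ x₂ ∈ J, x₁ * x₁ = z ∧ x₂ * x₂ = z ∧
      x₂ * x₁ = z * (x₁ * x₂) ∧ x₁ * (g * z * g⁻¹) = g * z * g⁻¹ * x₁ ∧ x₂ * (g * z * g⁻¹) = g * z * g⁻¹ * x₂ := by
    obtain ⟨p', hp', q', hq', hpq⟩ : ∃ p' ∈ X, ∃ q' ∈ X, q' * p' = z * (p' * q') := h.exists_pair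
    have hpqJ : p' * q' ∈ J := h.X_le (mul_mem hp' hq')
    have hsq3 : p' * q' * (p' * q') = p' * p' * (q' * q') * z := by
      calc p' * q' * (p' * q') = p' * (q' * p') * q' := by group
        _ = p' * z * (p' * (q' * q')) := by rw [hpq]; group
        _ = _ := by
          rw [h.J_z p' (h.X_le hp'), mul_assoc, ← h.J_z _ (mul_mem (h.X_le hp') (mul_mem (h.X_le hp')
            (mul_mem (h.X_le hq') (h.X_le hq'))))]
          group
    have h3 : p' * q' * p' = z * (p' * (p' * q')) := by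
      calc p' * q' * p' = p' * (q' * p') := by group
        _ = p' * z * (p' * q') := by rw [hpq]; group
        _ = _ := by rw [h.J_z p' (h.X_le hp')]; group
    obtain ⟨x, hxX, x', hx'X, hxx, e⟩ : ∃ x ∈ X, ∃ x' ∈ X, x * x = x' * x' ∧ x' * x = z * (x * x') := by
      rcases h.sq p' (h.X_le hp') with e1 | e1 <;> rcases h.sq q' (h.X_le hq') with e2 | e2
      · exact ⟨p', hp', q', hq', e1.trans e2.symm, hpq⟩
      · exact ⟨p', hp', p' * q', mul_mem hp' hq', by rw [hsq3, e1, e2, one_mul, h.zz], h3⟩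
      · refine ⟨q', hq', p' * q', mul_mem hp' hq', by rw [hsq3, e1, e2, mul_one, h.zz], ?_⟩
        calc p' * q' * q' = z * z * (p' * q') * q' := by rw [h.zz, one_mul]
          _ = z * (q' * p') * q' := by rw [hpq]; group
          _ = _ := by group
      · exact ⟨p', hp', q', hq', e1.trans e2.symm, hpq⟩
    rcases h.sq x (h.X_le hxX) with e1 | e1
    · refine ⟨x * u, mul_mem (h.X_le hxX) (h.W_le hu), x' * u, mul_mem (h.X_le hx'X) (h.W_le hu), ?_, ?_, ?_, ?_, ?_⟩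
      · calc x * u * (x * u) = x * (u * x) * u := by group
          _ = x * x * (u * u) := by rw [h.XW hxX hu]; group
          _ = z := by rw [e1, hu2, one_mul]
      · calc x' * u * (x' * u) = x' * (u * x') * u := by group
          _ = x' * x' * (u * u) := by rw [h.XW hx'X hu]; group
          _ = z := by rw [← hxx, e1, hu2, one_mul]
      · calc x' * u * (x * u) = x' * (u * x) * u := by group
          _ = x' * x * (u * u) := by rw [h.XW hxX hu]; group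
          _ = z * x * (x' * (u * u)) := by rw [e]; group
          _ = z * x * (x' * u * u) := by group
          _ = z * x * (u * x' * u) := by rw [h.XW hx'X hu]
          _ = _ := by group
      · rw [mul_assoc, huy, ← mul_assoc, hcent x hxX, mul_assoc]
      · rw [mul_assoc, huy, ← mul_assoc, hcent x' hx'X, mul_assoc]
    · exact ⟨x, h.X_le hxX, x', h.X_le hx'X, e1, hxx ▸ e1, e, hcent x hxX, hcent x' hx'X⟩
  have hi₁ : x₁⁻¹ = z * x₁ := by
    refine inv_eq_of_mul_eq_one_right ?_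
    rw [← mul_assoc, h.J_z _ hx₁, mul_assoc, s₁, h.zz]
  have hinv : x₂ * x₁ * x₂⁻¹ = x₁⁻¹ := by rw [hanti, hi₁, mul_assoc z, mul_inv_cancel_right]
  have hy' := h.partner_comm hy
  have hne' : g⁻¹ * z * g⁻¹⁻¹ ≠ z := fun e' => hne (by
    conv_lhs => rw [← e']
    group)
  have hw : g⁻¹ * z * g ∉ J := fun e' => hne' (h.no_fusion (by rwa [inv_inv]))
  have ht := h.partner_not_mem hy' hne'
  have hwt := h.swap.partner_not_mem hy' hne'
  rw [inv_inv] at ht hwt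
  set c := g⁻¹ * x₁ * g with hc
  set d := g⁻¹ * x₂ * g with hd
  have hcc : c * c = g⁻¹ * z * g := by
    rw [hc, show g⁻¹ * x₁ * g * (g⁻¹ * x₁ * g) = g⁻¹ * (x₁ * x₁) * g by group, s₁]
  refine h.noQ8 c d (g⁻¹ * a * g) (h.back c₁) (h.back c₂) ?_ ?_ ?_ ?_ ?_ ?_ ht ?_ ?_ ?_
  · have := h.x_mem hy'
    rwa [inv_inv] at this
  · rw [hcc, hd, show g⁻¹ * x₂ * g * (g⁻¹ * x₂ * g) = g⁻¹ * (x₂ * x₂) * g by group, s₂]
  · calc d * c * d⁻¹ = g⁻¹ * (x₂ * x₁ * x₂⁻¹) * g := by rw [hd, hc]; group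
      _ = c⁻¹ := by rw [hinv, hc]; group
  · rw [hcc]; exact hw
  · rw [hcc, show g⁻¹ * z * g * (g⁻¹ * z * g) = g⁻¹ * (z * z) * g by group, h.zz]; group
  · rw [show g⁻¹ * a * g * (g⁻¹ * a * g) = g⁻¹ * (a * a) * g by group, h.aa]; group
  · rw [hcc, show g⁻¹ * z * g * (g⁻¹ * a * g) = g⁻¹ * (z * a) * g by group]
    exact hwt
  · calc g⁻¹ * a * g * c = g⁻¹ * (a * x₁) * g := by rw [hc]; group
      _ = c * (g⁻¹ * a * g) := by rw [← h.J_a _ hx₁, hc]; group
  · calc g⁻¹ * a * g * d = g⁻¹ * (a * x₂) * g := by rw [hd]; group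
      _ = d * (g⁻¹ * a * g) := by rw [← h.J_a _ hx₂, hd]; group

theorem supplement : Subgroup.centralizer ({z} : Set G) ⊔ Cfsg.oddCore G = ⊤ :=
  CfsgLib.Recognition.USixTwoOuter.sup_oddCore_eq_top ⟨h.ord_z, fun _ hg => h.isolated hg.eq.symm⟩

end Data

end CfsgLib.Recognition.USixCentral.Plane
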